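import Groth.Prelude.Def_RootCh
import Mathlib.LinearAlgebra.RootSystem.BaseExists
import Mathlib.LinearAlgebra.RootSystem.Finite.Nondegenerate
import Mathlib.Tactic.LinearCombination
import Mathlib.Tactic.Positivity
import Mathlib.Tactic.FieldSimp
import Mathlib.Algebra.Order.Field.Basic
import Mathlib.Data.Sign.Basic

/-!
Weyl chambers, facets and corners over an ordered field.
-/

set_option autoImplicit false
set_option linter.unusedSectionVars false

open Function Set RootPairing Module
open scoped BigOperators Classical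

namespace Groth.L24.RootCh

open _root_.RootCh

variable {ι R M N : Type*} [Field R] [LinearOrder R] [IsStrictOrderedRing R]
  [AddCommGroup M] [Module R M] [AddCommGroup N] [Module R N]

section General

variable {P : RootPairing ι R M N}

theorem base_flip_flip (b : P.Base) : (b.flip.flip : P.flip.flip.Base) = b := rfl

end General

variable [Fintype ι] {P : RootPairing ι R M N} [P.IsRootSystem] [P.IsCrystallographic] [P.IsReduced]

/-- Half the squared length of a root for the canonical form. -/
noncomputable def hl (P : RootPairing ι R M N) (i : ι) : R := P.RootForm (P.root i) (P.root i) / 2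

theorem rootForm_pos {x : M} (hx : x ≠ 0) : 0 < P.RootForm x x :=
  P.rootForm_pos_of_ne_zero (by simp) hx

theorem hl_pos (i : ι) : 0 < hl P i := half_pos (rootForm_pos (P.ne_zero i))

theorem rootForm_comm (x y : M) : P.RootForm x y = P.RootForm y x := by
  simp [rootForm_apply_apply, mul_comm]

theorem apply_pol (x y : M) : P.toLinearMap y (P.Polarization x) = P.RootForm x y :=
  P.toLinearMap_apply_apply_Polarization x y

theorem root'_pol (i : ι) (x : M) : P.root' i (P.Polarization x) = P.RootForm (P.root i) x := by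
  rw [rootForm_comm]
  exact apply_pol x (P.root i)

theorem rootForm_root (i : ι) (x : M) : P.RootForm (P.root i) x = hl P i * P.coroot' i x := by
  have h := congr_arg (P.toLinearMap x) (P.rootForm_self_smul_coroot i)
  rw [map_smul, map_nsmul, apply_pol, smul_eq_mul, nsmul_eq_mul] at h
  simp only [hl, RootPairing.coroot', LinearMap.flip_apply]
  push_cast at h
  linear_combination (-1/2 : R) * h

theorem sgnVec_eq (x : M) (i : ι) : sgnVec P x i = SignType.sign (P.RootForm (P.root i) x) := by
  rw [rootForm_root, sign_mul, sign_pos (hl_pos i), one_mul]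
  rfl

theorem cosgnVec_pol (x : M) : cosgnVec P (P.Polarization x) = sgnVec P x := by
  funext i
  rw [sgnVec_eq, cosgnVec, root'_pol]

theorem pol_surjective (y : N) : ∃ x : M, P.Polarization x = y := by
  refine ⟨P.PolarizationEquiv.symm y, ?_⟩
  rw [← P.polarizationEquiv_apply, LinearEquiv.apply_symm_apply]

theorem pol_injective : Injective P.Polarization := fun x y h => by
  rw [← P.polarizationEquiv_apply, ← P.polarizationEquiv_apply] at h
  exact P.PolarizationEquiv.injective h

theorem coroot'_eq_zero_iff (x : M) (i : ι) : P.coroot' i x = 0 ↔ P.RootForm (P.root i) x = 0 := by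
  rw [rootForm_root, mul_eq_zero_iff_left (hl_pos i).ne']

theorem coroot'_pos_iff (x : M) (i : ι) : 0 < P.coroot' i x ↔ 0 < P.RootForm (P.root i) x := by
  rw [rootForm_root, mul_pos_iff_of_pos_left (hl_pos i)]

theorem coroot'_nonneg_iff (x : M) (i : ι) : 0 ≤ P.coroot' i x ↔ 0 ≤ P.RootForm (P.root i) x := by
  rw [rootForm_root, mul_nonneg_iff_of_pos_left (hl_pos i)]

/-- Negation of root indices. -/
def negI (P : RootPairing ι R M N) (i : ι) : ι := P.reflectionPerm i i

@[simp] theorem root_negI (i : ι) : P.root (negI P i) = -P.root i := by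
  simp [negI]

@[simp] theorem negI_negI (i : ι) : negI P (negI P i) = i := P.root.injective (by simp)

theorem sgnVec_negI (x : M) (i : ι) : sgnVec P x (negI P i) = -sgnVec P x i := by
  simp [sgnVec_eq, Left.sign_neg]

theorem Facet_sgn_negI (F : Facet P) (i : ι) : F.sgn (negI P i) = -F.sgn i := by
  obtain ⟨x, hx⟩ := F.exists_sgnVec_eq
  rw [← hx, sgnVec_negI]

/-! ### Coefficients with respect to a base -/

/-- The coefficient of a root with respect to a simple root of a base. -/
noncomputable def cf (b : P.Base) (i : ι) (j : b.support) : R := b.toWeightBasis.repr (P.root i) j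

theorem root_eq_sum (b : P.Base) (i : ι) : P.root i = ∑ j : b.support, cf b i j • P.root j := by
  conv_lhs => rw [← b.toWeightBasis.sum_repr (P.root i)]
  simp [cf]

theorem apply_root (b : P.Base) (φ : M →ₗ[R] R) (i : ι) :
    φ (P.root i) = ∑ j : b.support, cf b i j * φ (P.root j) := by
  conv_lhs => rw [root_eq_sum b i]
  simp

theorem rootForm_root_sum (b : P.Base) (i : ι) (x : M) :
    P.RootForm (P.root i) x = ∑ j : b.support, cf b i j * P.RootForm (P.root j) x :=
  apply_root b (P.RootForm.flip x) i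

theorem cf_self (b : P.Base) (j : b.support) : cf b (j : ι) j = 1 := by simp [cf]

theorem cf_of_ne (b : P.Base) {j k : b.support} (h : k ≠ j) : cf b (k : ι) j = 0 := by
  simp [cf, h]

theorem exists_cf (b : P.Base) (i : ι) : ∃ f : ι → ℤ,
    (∀ j : b.support, cf b i j = (f j : R)) ∧ b.height i = ∑ j ∈ b.support, f j ∧ (0 < f ∨ f < 0) := by
  obtain ⟨f, hf₀, hf₁, hf₂⟩ := b.exists_root_eq_sum_int i
  refine ⟨f, fun j => ?_, RootPairing.Base.height_eq_sum hf₂, hf₁⟩
  have h : P.root i = ∑ k : b.support, (f k : R) • b.toWeightBasis k := by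
    rw [hf₂, ← Finset.sum_coe_sort]
    simp [Int.cast_smul_eq_zsmul]
  rw [cf, h, b.toWeightBasis.repr_sum_self]

theorem cf_int (b : P.Base) (i : ι) (j : b.support) : ∃ n : ℤ, cf b i j = (n : R) := by
  obtain ⟨f, hf, -, -⟩ := exists_cf b i
  exact ⟨_, hf j⟩

theorem cf_nonneg {b : P.Base} {i : ι} (h : b.IsPos i) (j : b.support) : 0 ≤ cf b i j := by
  obtain ⟨f, hf, hh, hf'⟩ := exists_cf b i
  rw [hf j]
  rcases hf' with hf' | hf'
  · exact_mod_cast hf'.le j
  · exact absurd h (by
      rw [Base.isPos_iff, hh, not_lt]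
      exact Finset.sum_nonpos fun k _ => hf'.le k)

theorem exists_cf_pos {b : P.Base} {i : ι} (h : b.IsPos i) : ∃ j : b.support, 0 < cf b i j := by
  by_contra! h'
  have h0 : P.root i = 0 := by
    rw [root_eq_sum b i]
    exact Finset.sum_eq_zero fun j _ => by rw [le_antisymm (h' j) (cf_nonneg h j), zero_smul]
  exact P.ne_zero i h0

theorem isPos_negI_iff (b : P.Base) (i : ι) : b.IsPos (negI P i) ↔ ¬ b.IsPos i :=
  Base.IsPos.neg_iff_not b i

theorem cf_negI (b : P.Base) (i : ι) (j : b.support) : cf b (negI P i) j = -cf b i j := by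
  simp [cf]

theorem isPos_of_cf_pos {b : P.Base} {i : ι} {j : b.support} (h : 0 < cf b i j) : b.IsPos i := by
  by_contra h'
  have := cf_nonneg ((isPos_negI_iff b i).2 h') j
  rw [cf_negI] at this
  linarith

theorem cf_nonpos {b : P.Base} {i : ι} (h : ¬ b.IsPos i) (j : b.support) : cf b i j ≤ 0 := by
  by_contra h'
  exact h (isPos_of_cf_pos (not_le.1 h'))

/-! ### Fundamental weights -/

theorem eq_sum_fundWeight (b : P.Base) (x : M) :
    x = ∑ j : b.support, P.coroot' j x • fundWeight b j := by
  apply P.toPerfPair.injective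
  refine b.toCoweightBasis.ext fun k => ?_
  simp only [map_sum, map_smul, LinearMap.coe_sum, Finset.sum_apply, LinearMap.smul_apply,
    LinearMap.toPerfPair_apply, Base.toCoweightBasis_apply]
  rw [Finset.sum_eq_single k]
  · change P.coroot' k x = _ • P.coroot' k (fundWeight b k)
    rw [coroot'_fundWeight_self, smul_eq_mul, mul_one]
  · intro j _ hj
    change _ • P.coroot' k (fundWeight b j) = 0
    rw [coroot'_fundWeight_of_ne b j k hj.symm, smul_zero]
  · simp

theorem ext_base (b : P.Base) {x y : M} (h : ∀ j : b.support, P.coroot' j x = P.coroot' j y) :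
    x = y := by
  rw [eq_sum_fundWeight b x, eq_sum_fundWeight b y]
  simp only [h]

theorem rootForm_simple_fund (b : P.Base) (k j : b.support) :
    P.RootForm (P.root k) (fundWeight b j) = if k = j then hl P j else 0 := by
  rw [rootForm_root]
  split_ifs with h
  · rw [h, coroot'_fundWeight_self, mul_one]
  · rw [coroot'_fundWeight_of_ne b j k h, mul_zero]

theorem rootForm_fund (b : P.Base) (i : ι) (j : b.support) :
    P.RootForm (P.root i) (fundWeight b j) = cf b i j * hl P j := by
  rw [rootForm_root_sum b i]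
  simp [rootForm_simple_fund]

theorem fundWeight_injective (b : P.Base) : Injective (fundWeight b) := fun j k h => by
  by_contra hne
  have h1 := coroot'_fundWeight_self b j
  rw [h, coroot'_fundWeight_of_ne b k j hne] at h1
  exact zero_ne_one h1

theorem linearIndependent_fundWeight (b : P.Base) : LinearIndependent R (fundWeight b) := by
  rw [Fintype.linearIndependent_iff]
  intro g hg k
  have := congr_arg (P.coroot' k) hg
  rw [map_sum, map_zero, Finset.sum_eq_single k] at this
  · rw [map_smul, coroot'_fundWeight_self, smul_eq_mul, mul_one] at this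
    exact this
  · intro j _ hj
    rw [map_smul, coroot'_fundWeight_of_ne b j k hj.symm, smul_zero]
  · simp

theorem coroot'_fund_int (b : P.Base) (i : ι) (j : b.support) :
    ∃ n : ℤ, P.coroot' i (fundWeight b j) = (n : R) := by
  have key : ∀ x ∈ Submodule.span ℤ (P.coroot '' b.support),
      ∃ n : ℤ, P.toLinearMap (fundWeight b j) x = (n : R) := by
    intro x hx
    induction hx using Submodule.span_induction with
    | mem x hx =>
      obtain ⟨k, hk, rfl⟩ := hx
      by_cases h : (⟨k, hk⟩ : b.support) = j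
      · exact ⟨1, by rw [Int.cast_one, ← coroot'_fundWeight_self b j, ← h]; rfl⟩
      · exact ⟨0, by rw [Int.cast_zero, ← coroot'_fundWeight_of_ne b j ⟨k, hk⟩ h]; rfl⟩
    | zero => exact ⟨0, by simp⟩
    | add x y _ _ hx hy =>
      obtain ⟨n, hn⟩ := hx
      obtain ⟨m, hm⟩ := hy
      exact ⟨n + m, by rw [map_add, hn, hm]; push_cast; rfl⟩
    | smul a x _ hx =>
      obtain ⟨n, hn⟩ := hx
      exact ⟨a * n, by rw [map_zsmul, hn, zsmul_eq_mul]; push_cast; rfl⟩
  exact key _ (b.coroot_mem_span_int i)

/-! ### Regular vectors and bases -/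

theorem exists_regular (P : RootPairing ι R M N) [P.IsRootSystem] :
    ∃ x : M, ∀ i, P.coroot' i x ≠ 0 := by
  obtain ⟨f, hf⟩ := Module.exists_dual_forall_apply_ne_zero (K := R) P.coroot (fun i => P.ne_zero' i)
  refine ⟨P.toPerfPair.symm f, fun i => ?_⟩
  simpa [RootPairing.coroot'] using hf i

theorem rootForm_pos_of_isPos {b : P.Base} {x : M}
    (hx : ∀ j ∈ b.support, 0 < P.RootForm (P.root j) x) {i : ι} (h : b.IsPos i) :
    0 < P.RootForm (P.root i) x := by
  rw [rootForm_root_sum b i]
  obtain ⟨j, hj⟩ := exists_cf_pos h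
  exact Finset.sum_pos' (fun k _ => mul_nonneg (cf_nonneg h k) (hx k k.2).le)
    ⟨j, Finset.mem_univ _, mul_pos hj (hx j j.2)⟩

theorem isPos_iff_of_openChamber {b : P.Base} {x : M} (hx : x ∈ openChamber b) (i : ι) :
    b.IsPos i ↔ 0 < P.coroot' i x := by
  have hx' : ∀ j ∈ b.support, 0 < P.RootForm (P.root j) x := fun j hj =>
    (coroot'_pos_iff x j).1 (hx j hj)
  rw [coroot'_pos_iff]
  refine ⟨rootForm_pos_of_isPos hx', fun h => ?_⟩
  by_contra h'
  have := rootForm_pos_of_isPos hx' ((isPos_negI_iff b i).2 h')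
  simp at this
  linarith

theorem exists_base_of_regular {x : M} (hx : ∀ i, P.coroot' i x ≠ 0) :
    ∃ b : P.Base, ∀ i, b.IsPos i ↔ 0 < P.coroot' i x := by
  let f : M →ₗ[R] R := P.RootForm.flip x
  have hf : ∀ i, f (P.root i) ≠ 0 := fun i => fun h => hx i ((coroot'_eq_zero_iff x i).2 h)
  let := P.indexNeg
  let b : P.Base := Base.mk' P (IsAddIndecomposable.baseOf P.root (f : M →+ R))
    (P.linearIndepOn_root_baseOf' (S := R) f hf)
    (fun i => IsAddIndecomposable.mem_or_neg_mem_closure_baseOf P.root (f : M →+ R) i (hf i) (by simp))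
  refine ⟨b, isPos_iff_of_openChamber fun j hj => ?_⟩
  rw [coroot'_pos_iff]
  have h1 : j ∈ IsAddIndecomposable.baseOf P.root (f : M →+ R) := by simpa [b, Base.mk'] using hj
  exact IsAddIndecomposable.baseOf_subset_pos _ _ h1

theorem sum_fund_mem_openChamber (b : P.Base) :
    (∑ j : b.support, fundWeight b j) ∈ openChamber b := by
  intro k hk
  rw [map_sum, Finset.sum_eq_single (⟨k, hk⟩ : b.support)]
  · rw [coroot'_fundWeight_self b ⟨k, hk⟩]; exact one_pos
  · intro j _ hj
    exact coroot'_fundWeight_of_ne b j ⟨k, hk⟩ hj.symm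
  · simp

theorem mem_closedChamber_iff {b : P.Base} {x : M} :
    x ∈ closedChamber b ↔ ∀ i, b.IsPos i → 0 ≤ P.coroot' i x := by
  refine ⟨fun hx i hi => ?_, fun h j hj => h j (Base.isPos_of_mem_support hj)⟩
  rw [coroot'_nonneg_iff, rootForm_root_sum b i]
  exact Finset.sum_nonneg fun j _ =>
    mul_nonneg (cf_nonneg hi j) ((coroot'_nonneg_iff (P := P) x j).1 (hx j j.2))

theorem mem_support_iff (b : P.Base) (i : ι) :
    i ∈ b.support ↔
      b.IsPos i ∧ ∀ j k, b.IsPos j → b.IsPos k → P.root i ≠ P.root j + P.root k := by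
  constructor
  · refine fun hi => ⟨Base.isPos_of_mem_support hi, fun j k hj hk h => ?_⟩
    have h1 := b.height_add h
    rw [Base.height_one_of_mem_support hi] at h1
    rw [Base.isPos_iff] at hj hk
    omega
  · rintro ⟨hi, h⟩
    obtain ⟨j, hj, hj'⟩ := hi.exists_mem_support_pos_pairingIn
    rw [P.zero_lt_pairingIn_iff'] at hj'
    rcases eq_or_ne i j with rfl | hij
    · exact hj
    obtain ⟨k, hk⟩ := P.root_sub_root_mem_of_pairingIn_pos hj' hij
    refine absurd (by rw [hk]; module : P.root i = P.root k + P.root j)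
      (h k j (hi.sub hj hk) (Base.isPos_of_mem_support hj))

theorem base_ext {b b' : P.Base} (h : ∀ i, b.IsPos i ↔ b'.IsPos i) : b = b' := by
  have hs : b.support = b'.support := by
    ext i
    simp only [mem_support_iff, h]
  cases b
  cases b'
  cases hs
  rfl

/-! ### Perturbation -/

theorem exists_perturb (x y : M) : ∃ z : M, ∀ i, (sgnVec P x i ≠ 0 → sgnVec P z i = sgnVec P x i) ∧
    (sgnVec P x i = 0 → sgnVec P z i = sgnVec P y i) := by
  let s : R := 1 + ∑ i, |P.coroot' i y| / |P.coroot' i x|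
  have hs : 0 < s := by
    have : 0 ≤ ∑ i, |P.coroot' i y| / |P.coroot' i x| := Finset.sum_nonneg fun i _ => by positivity
    linarith
  refine ⟨x + s⁻¹ • y, fun i => ⟨fun hx => ?_, fun hx => ?_⟩⟩
  · have hx0 : P.coroot' i x ≠ 0 := by simpa [sgnVec, sign_eq_zero_iff] using hx
    have hlt : |s⁻¹ * P.coroot' i y| < |P.coroot' i x| := by
      rw [abs_mul, abs_inv, abs_of_pos hs, inv_mul_lt_iff₀ hs, ← div_lt_iff₀ (abs_pos.2 hx0)]
      have := Finset.single_le_sum (s := Finset.univ)
        (f := fun i => |P.coroot' i y| / |P.coroot' i x|) (fun j _ => by positivity)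
        (Finset.mem_univ i)
      linarith
    simp only [sgnVec, map_add, map_smul, smul_eq_mul]
    rcases lt_or_gt_of_ne hx0 with h | h
    · rw [sign_neg h, sign_neg]
      rw [abs_of_neg h] at hlt
      linarith [le_abs_self (s⁻¹ * P.coroot' i y)]
    · rw [sign_pos h, sign_pos]
      rw [abs_of_pos h] at hlt
      linarith [neg_abs_le (s⁻¹ * P.coroot' i y)]
  · have hx0 : P.coroot' i x = 0 := by simpa [sgnVec, sign_eq_zero_iff] using hx
    simp only [sgnVec, map_add, map_smul, smul_eq_mul, hx0, zero_add]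
    rw [sign_mul, sign_pos (inv_pos.2 hs), one_mul]

theorem sgnVec_ne_neg_one_iff (x : M) (i : ι) : sgnVec P x i ≠ -1 ↔ 0 ≤ P.coroot' i x := by
  rw [sgnVec, Ne, sign_eq_neg_one_iff, not_lt]

theorem sgnVec_eq_one_iff (x : M) (i : ι) : sgnVec P x i = 1 ↔ 0 < P.coroot' i x := by
  rw [sgnVec, sign_eq_one_iff]

theorem sgnVec_eq_zero_iff (x : M) (i : ι) : sgnVec P x i = 0 ↔ P.coroot' i x = 0 := by
  rw [sgnVec, sign_eq_zero_iff]

theorem exists_cham_nonneg (F : Facet P) (y : M) : ∃ b : P.Base,
    b ∈ F.cham ∧ ∀ j ∈ b.support, F.sgn j = 0 → 0 ≤ P.coroot' j y := by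
  obtain ⟨x, hx⟩ := F.exists_sgnVec_eq
  obtain ⟨r, hr⟩ := exists_regular P
  obtain ⟨z, hz⟩ := exists_perturb (P := P) x y
  obtain ⟨w, hw⟩ := exists_perturb (P := P) z r
  have hw0 : ∀ i, P.coroot' i w ≠ 0 := by
    intro i h
    rw [← sgnVec_eq_zero_iff] at h
    by_cases hzi : sgnVec P z i = 0
    · rw [(hw i).2 hzi, sgnVec_eq_zero_iff] at h; exact hr i h
    · rw [(hw i).1 hzi] at h; exact hzi h
  obtain ⟨b, hb⟩ := exists_base_of_regular hw0
  have hbj : ∀ j ∈ b.support, sgnVec P w j = 1 := fun j hj =>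
    (sgnVec_eq_one_iff w j).2 ((hb j).1 (Base.isPos_of_mem_support hj))
  refine ⟨b, fun ξ hξ j hj => ?_, fun j hj hj0 => ?_⟩
  · rw [← sgnVec_ne_neg_one_iff, show sgnVec P ξ = F.sgn from hξ, ← hx]
    intro h
    have h1 := (hz j).1 (by rw [h]; decide)
    have h2 := (hw j).1 (by rw [h1, h]; decide)
    rw [hbj j hj, h1, h] at h2
    exact absurd h2 (by decide)
  · rw [← sgnVec_ne_neg_one_iff]
    intro h
    have h1 := (hz j).2 (by rw [hx]; exact hj0)
    have h2 := (hw j).1 (by rw [h1, h]; decide)
    rw [hbj j hj, h1, h] at h2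
    exact absurd h2 (by decide)

theorem cham_nonempty (F : Facet P) : ∃ b : P.Base, b ∈ F.cham := by
  obtain ⟨b, hb, -⟩ := exists_cham_nonneg F 0
  exact ⟨b, hb⟩

/-! ### Facets in the coordinates of an adjacent chamber -/

theorem mem_cham_iff {F : Facet P} {b : P.Base} :
    b ∈ F.cham ↔ ∀ j ∈ b.support, F.sgn j ≠ -1 := by
  constructor
  · intro h j hj
    obtain ⟨x, hx⟩ := F.exists_sgnVec_eq
    rw [← hx, sgnVec_ne_neg_one_iff]
    exact h hx j hj
  · intro h x hx j hj
    rw [← sgnVec_ne_neg_one_iff, show sgnVec P x = F.sgn from hx]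
    exact h j hj

theorem sgn_simple {F : Facet P} {b : P.Base} (hb : b ∈ F.cham) (j : b.support) :
    F.sgn j = 0 ∨ F.sgn j = 1 := by
  have := mem_cham_iff.1 hb j j.2
  revert this
  generalize F.sgn j = s
  revert s
  decide

theorem mem_parab_of_isPos {F : Facet P} {b : P.Base} (hb : b ∈ F.cham) {i : ι} (hi : b.IsPos i) :
    i ∈ F.parab := by
  obtain ⟨x, hx⟩ := F.exists_sgnVec_eq
  show F.sgn i ≠ -1
  rw [← hx, sgnVec_ne_neg_one_iff]
  exact mem_closedChamber_iff.1 (hb hx) i hi

theorem sgnVec_eq_zero_iff_of_mem {b : P.Base} {x : M} (hx : x ∈ closedChamber b) (i : ι) :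
    sgnVec P x i = 0 ↔ ∀ j : b.support, cf b i j = 0 ∨ P.coroot' j x = 0 := by
  rw [sgnVec_eq_zero_iff, coroot'_eq_zero_iff, rootForm_root_sum b i]
  have hB : ∀ j : b.support, 0 ≤ P.RootForm (P.root j) x := fun j =>
    (coroot'_nonneg_iff (P := P) x j).1 (hx j j.2)
  by_cases hi : b.IsPos i
  · rw [Finset.sum_eq_zero_iff_of_nonneg fun j _ => mul_nonneg (cf_nonneg hi j) (hB j)]
    exact ⟨fun h j => (mul_eq_zero.1 (h j (Finset.mem_univ _))).imp id
        (coroot'_eq_zero_iff x _).2,
      fun h j _ => mul_eq_zero.2 ((h j).imp id (coroot'_eq_zero_iff x _).1)⟩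
  · rw [Finset.sum_eq_zero_iff_of_nonpos
      fun j _ => mul_nonpos_of_nonpos_of_nonneg (cf_nonpos hi j) (hB j)]
    exact ⟨fun h j => (mul_eq_zero.1 (h j (Finset.mem_univ _))).imp id
        (coroot'_eq_zero_iff x _).2,
      fun h j _ => mul_eq_zero.2 ((h j).imp id (coroot'_eq_zero_iff x _).1)⟩

theorem sgnVec_cases {b : P.Base} {x : M} (hx : x ∈ closedChamber b) (i : ι) :
    sgnVec P x i = 0 ∨ sgnVec P x i = if b.height i < 0 then -1 else 1 := by
  rcases lt_trichotomy (P.coroot' i x) 0 with h | h | h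
  · right
    rw [if_pos, sgnVec, sign_neg h]
    by_contra h'
    exact absurd (mem_closedChamber_iff.1 hx i ((Base.isPos_iff' b).2 (not_lt.1 h'))) (not_le.2 h)
  · exact Or.inl ((sgnVec_eq_zero_iff x i).2 h)
  · right
    rw [if_neg, sgnVec, sign_pos h]
    intro h'
    have hneg : b.IsPos (negI P i) := (isPos_negI_iff b i).2 (by rw [Base.isPos_iff]; omega)
    have h1 := mem_closedChamber_iff.1 hx _ hneg
    rw [coroot'_nonneg_iff, root_negI, map_neg, LinearMap.neg_apply] at h1
    rw [coroot'_pos_iff] at h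
    linarith

theorem sgnVec_eq_of_zero_iff {b : P.Base} {x y : M} (hx : x ∈ closedChamber b)
    (hy : y ∈ closedChamber b) (h : ∀ j : b.support, P.coroot' j x = 0 ↔ P.coroot' j y = 0) :
    sgnVec P x = sgnVec P y := by
  funext i
  have hiff : sgnVec P x i = 0 ↔ sgnVec P y i = 0 := by
    rw [sgnVec_eq_zero_iff_of_mem hx, sgnVec_eq_zero_iff_of_mem hy]
    exact forall_congr' fun j => or_congr Iff.rfl (h j)
  rcases sgnVec_cases hx i with h1 | h1
  · rw [h1, hiff.1 h1]
  · rcases sgnVec_cases hy i with h2 | h2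
    · rw [h2, hiff.2 h2]
    · rw [h1, h2]

theorem mem_carrier_iff {F : Facet P} {b : P.Base} (hb : b ∈ F.cham) {x : M} :
    x ∈ F.carrier ↔ ∀ j : b.support,
      (F.sgn j = 1 → 0 < P.coroot' j x) ∧ (F.sgn j = 0 → P.coroot' j x = 0) := by
  constructor
  · intro hx j
    rw [← (show sgnVec P x = F.sgn from hx), sgnVec_eq_one_iff, sgnVec_eq_zero_iff]
    exact ⟨id, id⟩
  · intro h
    obtain ⟨y, hy⟩ := F.exists_sgnVec_eq
    have hxc : x ∈ closedChamber b := fun j hj => by
      rcases sgn_simple hb ⟨j, hj⟩ with h0 | h1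
      · exact ((h ⟨j, hj⟩).2 h0).ge
      · exact ((h ⟨j, hj⟩).1 h1).le
    show sgnVec P x = F.sgn
    rw [← hy]
    refine sgnVec_eq_of_zero_iff hxc (hb hy) fun j => ?_
    rw [← sgnVec_eq_zero_iff y, hy]
    rcases sgn_simple hb j with h0 | h1
    · simp [(h j).2 h0, h0]
    · refine iff_of_false ((h j).1 h1).ne' ?_
      rw [h1]
      decide

theorem mem_closure_iff {F : Facet P} {b : P.Base} (hb : b ∈ F.cham) {x : M} :
    x ∈ F.closure ↔ x ∈ closedChamber b ∧
      ∀ j : b.support, F.sgn j = 0 → P.coroot' j x = 0 := by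
  constructor
  · intro hx
    refine ⟨fun j hj => ?_, fun j h0 => ?_⟩
    · rw [← sgnVec_ne_neg_one_iff]
      rcases hx j with h | h <;> rw [h]
      · decide
      · exact mem_cham_iff.1 hb j hj
    · rw [← sgnVec_eq_zero_iff]
      rcases hx j with h | h
      · exact h
      · rw [h, h0]
  · rintro ⟨hx, h⟩ i
    obtain ⟨y, hy⟩ := F.exists_sgnVec_eq
    rw [← hy]
    by_cases hy0 : sgnVec P y i = 0
    · left
      rw [sgnVec_eq_zero_iff_of_mem (hb hy)] at hy0
      rw [sgnVec_eq_zero_iff_of_mem hx]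
      refine fun j => (hy0 j).imp id fun hj => h j ?_
      rw [← hy]
      exact (sgnVec_eq_zero_iff (P := P) y j).2 hj
    · rcases sgnVec_cases hx i with h1 | h1
      · exact Or.inl h1
      · exact Or.inr (h1.trans ((sgnVec_cases (hb hy) i).resolve_left hy0).symm)

/-- A facet is determined by its signs on the simple roots of an adjacent chamber. -/
theorem facet_eq_of_sgn {F G : Facet P} {b : P.Base} (hF : b ∈ F.cham) (hG : b ∈ G.cham)
    (h : ∀ j : b.support, F.sgn j = G.sgn j) : F = G := by
  obtain ⟨x, hx⟩ := F.exists_sgnVec_eq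
  have : x ∈ G.carrier := (mem_carrier_iff hG).2 fun j => by
    rw [← h j]
    exact (mem_carrier_iff hF).1 hx j
  exact Facet.ext (hx.symm.trans this)

theorem facet_eq_of_mem {F G : Facet P} {x : M} (hF : x ∈ F.carrier) (hG : x ∈ G.carrier) : F = G :=
  Facet.ext ((show sgnVec P x = F.sgn from hF).symm.trans hG)

theorem mem_carrier_ofVec (x : M) : x ∈ (Facet.ofVec P x).carrier := rfl

theorem mem_cham_ofVec {b : P.Base} {x : M} (h : x ∈ closedChamber b) :
    b ∈ (Facet.ofVec P x).cham :=
  mem_cham_iff.2 fun j hj => (sgnVec_ne_neg_one_iff x j).2 (h j hj)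

theorem exists_facet (b : P.Base) (T : Set b.support) :
    ∃ G : Facet P, b ∈ G.cham ∧ ∀ j : b.support, (G.sgn j = 1 ↔ j ∈ T) := by
  classical
  set x := ∑ k : b.support, (if k ∈ T then (1 : R) else 0) • fundWeight b k with hx
  have hc : ∀ j : b.support, P.coroot' j x = if j ∈ T then 1 else 0 := fun j => by
    rw [hx, map_sum, Finset.sum_eq_single j]
    · rw [map_smul, coroot'_fundWeight_self, smul_eq_mul, mul_one]
    · intro k _ hk
      rw [map_smul, coroot'_fundWeight_of_ne b k j hk.symm, smul_zero]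
    · simp
  refine ⟨Facet.ofVec P x, mem_cham_ofVec fun j hj => ?_, fun j => ?_⟩
  · rw [hc ⟨j, hj⟩]
    split_ifs <;> simp
  · show sgnVec P x j = 1 ↔ _
    rw [sgnVec_eq_one_iff, hc j]
    split_ifs with h <;> simp [h]

/-! ### Corners -/

theorem baseCorners_eq (b : P.Base) : baseCorners b = Set.range (fundWeight b) := by
  classical
  ext w
  constructor
  · rintro ⟨⟨b', j', rfl⟩, hw⟩
    set w := fundWeight b' j' with hw'
    have hone : ∀ k₁ k₂ : b.support, P.coroot' k₁ w ≠ 0 → P.coroot' k₂ w ≠ 0 → k₁ = k₂ := by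
      intro k₁ k₂ h₁ h₂
      by_contra hne
      set v := P.RootForm (P.root k₂) w • P.root k₁ - P.RootForm (P.root k₁) w • P.root k₂ with hv
      have hv0 : P.RootForm v w = 0 := by simp [hv]; ring
      have hsum : v = ∑ l : b'.support, b'.toWeightBasis.repr v l • P.root l := by
        conv_lhs => rw [← b'.toWeightBasis.sum_repr v]
        simp
      have hrep : b'.toWeightBasis.repr v j' = 0 := by
        have h := hv0
        rw [hsum] at h
        simp only [map_sum, map_smul, LinearMap.coe_sum, Finset.sum_apply, LinearMap.smul_apply,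
          hw', rootForm_simple_fund, smul_eq_mul, mul_ite, mul_zero, Finset.sum_ite_eq',
          Finset.mem_univ, if_true] at h
        exact (mul_eq_zero.1 h).resolve_right (hl_pos _).ne'
      have hzero : b.toWeightBasis.repr v k₁ = 0 := by
        rw [hsum]
        simp only [map_sum, map_smul, Finsupp.coe_finsetSum, Finset.sum_apply, Finsupp.coe_smul,
          Pi.smul_apply, smul_eq_mul]
        refine Finset.sum_eq_zero fun l _ => ?_
        rcases eq_or_ne l j' with rfl | hl
        · rw [hrep, zero_mul]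
        · have h0 : sgnVec P w l = 0 := by
            rw [sgnVec_eq_zero_iff, hw', coroot'_fundWeight_of_ne b' j' l hl]
          rw [((sgnVec_eq_zero_iff_of_mem hw l).1 h0 k₁).resolve_right h₁ |>
            (fun h => (h : b.toWeightBasis.repr (P.root l) k₁ = 0)), mul_zero]
      rw [hv] at hzero
      simp [Ne.symm hne] at hzero
      exact h₂ ((coroot'_eq_zero_iff _ _).2 hzero)
    obtain ⟨k, hk⟩ : ∃ k : b.support, P.coroot' k w ≠ 0 := by
      by_contra! h0
      have h1 : w = 0 := ext_base b fun j => by rw [h0 j, map_zero]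
      have h2 := coroot'_fundWeight_self b' j'
      rw [← hw', h1, map_zero] at h2
      exact zero_ne_one h2
    have heq : w = P.coroot' k w • fundWeight b k := by
      conv_lhs => rw [eq_sum_fundWeight b w]
      rw [Finset.sum_eq_single k]
      · intro j _ hj
        rw [not_not.1 (fun hne => hj (hone j k hne hk)), zero_smul]
      · simp
    obtain ⟨m, hm⟩ := coroot'_fund_int b' k j'
    obtain ⟨n, hn⟩ := coroot'_fund_int b j' k
    have h1 := congr_arg (P.coroot' (j' : ι)) heq
    rw [map_smul, hn, hw', coroot'_fundWeight_self, hm, smul_eq_mul] at h1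
    have hmn : m * n = 1 := by exact_mod_cast h1.symm
    have hm0 : 0 ≤ m := by
      have := hw k k.2
      rw [hw', hm] at this
      exact_mod_cast this
    have hm1 : m = 1 := by
      rcases Int.mul_eq_one_iff_eq_one_or_neg_one.1 hmn with ⟨h, -⟩ | ⟨h, -⟩
      · exact h
      · omega
    refine ⟨k, ?_⟩
    rw [heq, show P.coroot' k w = 1 by rw [hw', hm, hm1, Int.cast_one], one_smul]
  · rintro ⟨j, rfl⟩
    refine ⟨⟨b, j, rfl⟩, fun k hk => ?_⟩
    by_cases h : (⟨k, hk⟩ : b.support) = j
    · rw [← h, coroot'_fundWeight_self b ⟨k, hk⟩]; exact zero_le_one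
    · rw [coroot'_fundWeight_of_ne b j ⟨k, hk⟩ h]

theorem fundWeight_mem_closure_iff {F : Facet P} {b : P.Base} (hb : b ∈ F.cham) (j : b.support) :
    fundWeight b j ∈ F.closure ↔ F.sgn j = 1 := by
  rw [mem_closure_iff hb]
  have hc : fundWeight b j ∈ closedChamber b :=
    (show fundWeight b j ∈ baseCorners b by rw [baseCorners_eq]; exact ⟨j, rfl⟩).2
  constructor
  · rintro ⟨-, h⟩
    refine (sgn_simple hb j).resolve_left fun h0 => ?_
    have := h j h0
    rw [coroot'_fundWeight_self] at this
    exact one_ne_zero this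
  · refine fun h1 => ⟨hc, fun k hk => coroot'_fundWeight_of_ne b j k fun hkj => ?_⟩
    rw [hkj, h1] at hk
    exact absurd hk (by decide)

theorem corners_eq {F : Facet P} {b : P.Base} (hb : b ∈ F.cham) :
    F.corners = fundWeight b '' {j : b.support | F.sgn j = 1} := by
  ext w
  constructor
  · rintro ⟨hw, hwc⟩
    have : w ∈ baseCorners b := ⟨hw, ((mem_closure_iff hb).1 hwc).1⟩
    rw [baseCorners_eq] at this
    obtain ⟨j, rfl⟩ := this
    exact ⟨j, (fundWeight_mem_closure_iff hb j).1 hwc, rfl⟩
  · rintro ⟨j, hj, rfl⟩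
    exact ⟨⟨b, j, rfl⟩, (fundWeight_mem_closure_iff hb j).2 hj⟩

theorem corners_subset_baseCorners {F : Facet P} {b : P.Base} (hb : b ∈ F.cham) :
    F.corners ⊆ baseCorners b := by
  rw [corners_eq hb, baseCorners_eq]
  exact Set.image_subset_range _ _

theorem sum_mem_span_corners {F : Facet P} {b : P.Base} (hb : b ∈ F.cham) {x : M}
    (h : ∀ j : b.support, F.sgn j = 0 → P.coroot' j x = 0) :
    x ∈ Submodule.span R F.corners := by
  rw [eq_sum_fundWeight b x]
  refine Submodule.sum_mem _ fun j _ => ?_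
  rcases sgn_simple hb j with h0 | h1
  · rw [h j h0, zero_smul]; exact Submodule.zero_mem _
  · exact Submodule.smul_mem _ _ (Submodule.subset_span (by rw [corners_eq hb]; exact ⟨j, h1, rfl⟩))

theorem mem_span_corners_iff {F : Facet P} {b : P.Base} (hb : b ∈ F.cham) {x : M} :
    x ∈ Submodule.span R F.corners ↔ ∀ j : b.support, F.sgn j = 0 → P.coroot' j x = 0 := by
  refine ⟨fun hx j hj => ?_, sum_mem_span_corners hb⟩
  induction hx using Submodule.span_induction with
  | mem y hy =>
    rw [corners_eq hb] at hy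
    obtain ⟨k, hk, rfl⟩ := hy
    refine coroot'_fundWeight_of_ne b k j fun h => ?_
    rw [h, show F.sgn k = 1 from hk] at hj
    exact absurd hj (by decide)
  | zero => simp
  | add y z _ _ hy hz => rw [map_add, hy, hz, add_zero]
  | smul a y _ hy => rw [map_smul, hy, smul_zero]

theorem carrier_subset_span_corners (F : Facet P) :
    F.carrier ⊆ (Submodule.span R F.corners : Set M) := by
  obtain ⟨b, hb⟩ := cham_nonempty F
  exact fun x hx => sum_mem_span_corners hb fun j => ((mem_carrier_iff hb).1 hx j).2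

/-! ### Coweights -/

theorem fundCoweight_eq (b : P.Base) (j : b.support) :
    fundCoweight b j = (hl P j)⁻¹ • P.Polarization (fundWeight b j) := by
  apply P.flip.toPerfPair.injective
  refine b.toWeightBasis.ext fun k => ?_
  simp only [Base.toWeightBasis_apply, LinearMap.toPerfPair_apply, RootPairing.flip_toLinearMap,
    map_smul, LinearMap.smul_apply, LinearMap.flip_apply, smul_eq_mul]
  rcases eq_or_ne k j with rfl | h
  · rw [show P.toLinearMap (P.root k) (P.Polarization (fundWeight b k)) =
        P.root' k (P.Polarization (fundWeight b k)) from rfl, root'_pol, rootForm_simple_fund,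
      if_pos rfl, inv_mul_cancel₀ (hl_pos _).ne']
    exact root'_fundCoweight_self b k
  · rw [show P.toLinearMap (P.root k) (P.Polarization (fundWeight b j)) =
        P.root' k (P.Polarization (fundWeight b j)) from rfl, root'_pol, rootForm_simple_fund,
      if_neg h, mul_zero]
    exact root'_fundCoweight_of_ne b j k h

theorem hl_eq_of_fundWeight_eq {b b' : P.Base} {j : b.support} {j' : b'.support}
    (h : fundWeight b j = fundWeight b' j') : hl P j = hl P j' := by
  have h1 : hl P j' = cf b j' j * hl P j := by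
    rw [← rootForm_fund, h, rootForm_simple_fund, if_pos rfl]
  have h2 : hl P j = cf b' j j' * hl P j' := by
    rw [← rootForm_fund, ← h, rootForm_simple_fund, if_pos rfl]
  obtain ⟨n, hn⟩ := cf_int b j' j
  obtain ⟨m, hm⟩ := cf_int b' j j'
  rw [hn] at h1
  rw [hm, h1, ← mul_assoc] at h2
  have hmn : m * n = 1 := by
    have := mul_right_cancel₀ (hl_pos (P := P) (j : ι)).ne' ((one_mul _).trans h2)
    exact_mod_cast this.symm
  rcases Int.mul_eq_one_iff_eq_one_or_neg_one.1 hmn with ⟨-, hn'⟩ | ⟨-, hn'⟩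
  · rw [h1, hn', Int.cast_one, one_mul]
  · have := hl_pos (P := P) (j' : ι)
    rw [h1, hn'] at this
    have := hl_pos (P := P) (j : ι)
    push_cast at *
    linarith

theorem corr_iff {b : P.Base} {j : b.support} {y : N} :
    Corr P (fundWeight b j) y ↔ y = fundCoweight b j := by
  refine ⟨?_, fun h => ⟨b, j, rfl, h.symm⟩⟩
  rintro ⟨b', j', hw, rfl⟩
  rw [fundCoweight_eq, fundCoweight_eq, hl_eq_of_fundWeight_eq hw, hw]

theorem root'_fundCoweight (b : P.Base) (i : ι) (j : b.support) :
    P.root' i (fundCoweight b j) = cf b i j := by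
  rw [fundCoweight_eq, map_smul, root'_pol, rootForm_fund, smul_eq_mul]
  field_simp [(hl_pos (P := P) (j : ι)).ne']

theorem cosgnVec_fundCoweight (b : P.Base) (j : b.support) :
    cosgnVec P (fundCoweight b j) = sgnVec P (fundWeight b j) := by
  funext i
  rw [← cosgnVec_pol, cosgnVec, cosgnVec, fundCoweight_eq, map_smul, smul_eq_mul, sign_mul,
    sign_pos (inv_pos.2 (hl_pos _)), one_mul]

end Groth.L24.RootCh
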