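import Groth.Agent.L24.RootCh.Basic
import Groth.Prelude.Def_RootCh2

/-!
Reflected bases, parabolic sets, the sum of the roots of a facet, elementary sets.
-/

set_option autoImplicit false
set_option linter.unusedSectionVars false

open Function Set RootPairing Module
open scoped BigOperators Classical

namespace Groth.L24.RootCh

open _root_.RootCh

variable {ι R M N : Type*} [Field R] [LinearOrder R] [IsStrictOrderedRing R]
  [AddCommGroup M] [Module R M] [AddCommGroup N] [Module R N]
  [Fintype ι] {P : RootPairing ι R M N} [P.IsRootSystem] [P.IsCrystallographic] [P.IsReduced]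

theorem reflectionPerm_negI (k i : ι) :
    P.reflectionPerm k (negI P i) = negI P (P.reflectionPerm k i) :=
  P.root.injective (by simp [root_reflectionPerm])

theorem isPos_reflectionPerm_iff (b : P.Base) (j : b.support) (i : ι) :
    b.IsPos (P.reflectionPerm (j : ι) i) ↔ (b.IsPos i ∧ i ≠ j) ∨ i = negI P j := by
  have hj : b.IsPos (j : ι) := Base.isPos_of_mem_support j.2
  have hnj : ¬ b.IsPos (negI P (j : ι)) := fun h => (isPos_negI_iff b _).1 h hj
  by_cases h1 : i = j
  · rw [h1]
    refine iff_of_false hnj ?_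
    rintro (h | h)
    · exact h.2 rfl
    · exact hnj (h ▸ hj)
  by_cases h2 : i = negI P j
  · refine iff_of_true ?_ (Or.inr h2)
    rw [h2, reflectionPerm_negI, show P.reflectionPerm (j : ι) j = negI P j from rfl, negI_negI]
    exact hj
  simp only [h1, h2, ne_eq, not_false_eq_true, and_true, or_false]
  refine ⟨fun h => ?_, fun h => h.reflectionPerm j.2 h1⟩
  by_contra h'
  have h3 := (isPos_negI_iff b i).2 h'
  have h4 : negI P i ≠ (j : ι) := fun h5 => h2 (by rw [← h5, negI_negI])
  have h6 := h3.reflectionPerm j.2 h4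
  rw [reflectionPerm_negI] at h6
  exact (isPos_negI_iff b _).1 h6 h

theorem exists_refl_base (b : P.Base) (j : b.support) :
    ∃ c : P.Base, ∀ i, c.IsPos i ↔ (b.IsPos i ∧ i ≠ j) ∨ i = negI P j := by
  set x := ∑ k : b.support, fundWeight b k with hx
  have hpos := isPos_iff_of_openChamber (sum_fund_mem_openChamber b)
  have heq : ∀ i, P.coroot' i (P.reflection (j : ι) x) = P.coroot' (P.reflectionPerm (j : ι) i) x :=
    fun i => P.coroot'_reflection x
  have hne : ∀ i, P.coroot' i (P.reflection (j : ι) x) ≠ 0 := by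
    intro i
    rw [heq]
    rcases Classical.em (b.IsPos (P.reflectionPerm (j : ι) i)) with h | h
    · exact ((hpos _).1 h).ne'
    · have := (hpos _).1 ((isPos_negI_iff b _).2 h)
      rw [coroot'_pos_iff, root_negI, map_neg, LinearMap.neg_apply] at this
      rw [Ne, coroot'_eq_zero_iff]
      exact fun h0 => by rw [h0] at this; simp at this
  obtain ⟨c, hc⟩ := exists_base_of_regular hne
  exact ⟨c, fun i => by rw [hc, heq, ← hpos, isPos_reflectionPerm_iff]⟩

theorem fundWeight_mem_closedChamber (b : P.Base) (k : b.support) :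
    fundWeight b k ∈ closedChamber b :=
  (show fundWeight b k ∈ baseCorners b by rw [baseCorners_eq]; exact ⟨k, rfl⟩).2

/-- The reflected chamber has all but one corner in common with the original one. -/
theorem baseCorners_inter {b c : P.Base} (j : b.support)
    (hc : ∀ i, c.IsPos i ↔ (b.IsPos i ∧ i ≠ j) ∨ i = negI P j) :
    baseCorners b ∩ baseCorners c = fundWeight b '' {k | k ≠ j} := by
  ext w
  constructor
  · rintro ⟨hb, -, hwc⟩
    rw [baseCorners_eq] at hb
    obtain ⟨k, rfl⟩ := hb
    refine ⟨k, fun hkj => ?_, rfl⟩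
    have := mem_closedChamber_iff.1 hwc (negI P j) ((hc _).2 (Or.inr rfl))
    rw [coroot'_nonneg_iff, root_negI, map_neg, LinearMap.neg_apply, rootForm_simple_fund,
      if_pos hkj.symm] at this
    linarith [hl_pos (P := P) (k : ι)]
  · rintro ⟨k, hk, rfl⟩
    refine ⟨by rw [baseCorners_eq]; exact ⟨k, rfl⟩, ⟨b, k, rfl⟩, mem_closedChamber_iff.2 fun i hi => ?_⟩
    rcases (hc i).1 hi with h | h
    · exact mem_closedChamber_iff.1 (fundWeight_mem_closedChamber b k) i h.1
    · rw [h, coroot'_nonneg_iff, root_negI, map_neg, LinearMap.neg_apply, rootForm_simple_fund,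
        if_neg (Ne.symm hk), neg_zero]

/-! ### Parabolic sets -/

theorem parab_isParabolic (F : Facet P) : IsParabolicSubset P F.parab := by
  obtain ⟨x, hx⟩ := F.exists_sgnVec_eq
  have hmem : ∀ i, i ∈ F.parab ↔ 0 ≤ P.RootForm (P.root i) x := fun i => by
    show F.sgn i ≠ -1 ↔ _
    rw [← hx, sgnVec_ne_neg_one_iff, coroot'_nonneg_iff]
  refine ⟨fun i j k hi hj hk => ?_, fun i => ?_⟩
  · rw [hmem] at *
    rw [hk, map_add, LinearMap.add_apply]
    exact add_nonneg hi hj
  · change i ∈ F.parab ∨ negI P i ∈ F.parab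
    rw [hmem, hmem, root_negI, map_neg, LinearMap.neg_apply]
    rcases le_total 0 (P.RootForm (P.root i) x) with h | h
    · exact Or.inl h
    · exact Or.inr (by linarith)

theorem sgn_eq_one_iff (F : Facet P) (i : ι) :
    F.sgn i = 1 ↔ i ∈ F.parab ∧ negI P i ∉ F.parab := by
  show _ ↔ F.sgn i ≠ -1 ∧ ¬ F.sgn (negI P i) ≠ -1
  rw [Facet_sgn_negI]
  generalize F.sgn i = s
  revert s
  decide

theorem sgn_eq_neg_one_iff (F : Facet P) (i : ι) : F.sgn i = -1 ↔ i ∉ F.parab :=
  not_not.symm

theorem eq_of_parab_eq {F G : Facet P} (h : F.parab = G.parab) : F = G := by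
  refine Facet.ext (funext fun i => ?_)
  have h1 := sgn_eq_one_iff F i
  have h2 := sgn_eq_neg_one_iff F i
  rw [h, ← sgn_eq_one_iff G i] at h1
  rw [h, ← sgn_eq_neg_one_iff G i] at h2
  revert h1 h2
  generalize F.sgn i = s
  generalize G.sgn i = t
  revert s t
  decide

theorem le_iff_parab_subset (F G : Facet P) : F ≤ G ↔ F.parab ⊆ G.parab := by
  rw [Facet.le_def]
  constructor
  · intro h i hi
    show G.sgn i ≠ -1
    rcases h i with h' | h' <;> rw [h']
    · decide
    · exact hi
  · intro h i
    have h1 : G.sgn i = 1 → F.sgn i = 1 := by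
      rw [sgn_eq_one_iff, sgn_eq_one_iff]
      refine fun hG => ⟨?_, fun h' => hG.2 (h h')⟩
      exact ((parab_isParabolic F).2 i).resolve_right (fun h' => hG.2 (h h'))
    have h2 : G.sgn i = -1 → F.sgn i = -1 := by
      rw [sgn_eq_neg_one_iff, sgn_eq_neg_one_iff]
      exact fun hG hF => hG (h hF)
    revert h1 h2
    generalize F.sgn i = s
    generalize G.sgn i = t
    revert s t
    decide

theorem exists_base_pos_subset {S : Set ι} (hS : IsParabolicSubset P S) :
    ∃ b : P.Base, ∀ i, b.IsPos i → i ∈ S := by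
  obtain ⟨x₀, hx₀⟩ := exists_regular P
  obtain ⟨b₀, -⟩ := exists_base_of_regular hx₀
  let good : P.Base → ℕ := fun b => (Finset.univ.filter fun i => b.IsPos i ∧ i ∈ S).card
  obtain ⟨n, hn, hmax⟩ : ∃ n, (∃ b, good b = n) ∧ ∀ b, good b ≤ n := by
    have hbdd : ∀ n, (∃ b, good b = n) → n ≤ Fintype.card ι := by
      rintro n ⟨b, rfl⟩
      exact Finset.card_le_univ _
    refine ⟨Nat.findGreatest (fun n => ∃ b, good b = n) (Fintype.card ι),
      Nat.findGreatest_spec (P := fun n => ∃ b, good b = n) (hbdd _ ⟨b₀, rfl⟩) ⟨b₀, rfl⟩,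
      fun b => ?_⟩
    exact Nat.le_findGreatest (hbdd _ ⟨b, rfl⟩) ⟨b, rfl⟩
  obtain ⟨b, rfl⟩ := hn
  have hsimple : ∀ j ∈ b.support, j ∈ S := by
    intro j hj
    by_contra hjS
    have hneg : negI P j ∈ S := (hS.2 j).resolve_left hjS
    obtain ⟨c, hc⟩ := exists_refl_base b ⟨j, hj⟩
    refine absurd (hmax c) (not_le.2 (Finset.card_lt_card ?_))
    rw [Finset.ssubset_iff_of_subset]
    · refine ⟨negI P j, ?_, ?_⟩
      · simp only [Finset.mem_filter, Finset.mem_univ, true_and]
        exact ⟨(hc _).2 (Or.inr rfl), hneg⟩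
      · simp only [Finset.mem_filter, Finset.mem_univ, true_and]
        exact fun h => (isPos_negI_iff b j).1 h.1 (Base.isPos_of_mem_support hj)
    · intro i hi
      simp only [Finset.mem_filter, Finset.mem_univ, true_and] at hi ⊢
      exact ⟨(hc i).2 (Or.inl ⟨hi.1, fun h => hjS (by rw [h] at hi; exact hi.2)⟩), hi.2⟩
  refine ⟨b, fun i hi => ?_⟩
  exact hi.induction_on_add hsimple fun i j k hk hi' hj => hS.1 i j k hi' (hsimple j hj) hk

theorem exists_facet_parab_eq {S : Set ι} (hS : IsParabolicSubset P S) :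
    ∃ F : Facet P, F.parab = S := by
  obtain ⟨b, hb⟩ := exists_base_pos_subset hS
  obtain ⟨F, hF, hsgn⟩ := exists_facet b {j : b.support | negI P (j : ι) ∉ S}
  obtain ⟨y, hy⟩ := F.exists_sgnVec_eq
  have hzero : ∀ j : b.support, P.coroot' j y = 0 ↔ negI P (j : ι) ∈ S := fun j => by
    rw [← sgnVec_eq_zero_iff, hy]
    have := hsgn j
    simp only [Set.mem_ofPred_eq] at this
    rcases sgn_simple hF j with h | h <;> simp [h] at this ⊢ <;> tauto
  have key : ∀ i, b.IsPos i → (negI P i ∈ S ↔ ∀ j : b.support, cf b i j = 0 ∨ negI P (j : ι) ∈ S) := by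
    intro i hi
    refine hi.induction_on_add (p := fun i => b.IsPos i →
      (negI P i ∈ S ↔ ∀ j : b.support, cf b i j = 0 ∨ negI P (j : ι) ∈ S)) ?_ ?_ hi
    · intro j hj _
      refine ⟨fun h k => ?_, fun h => (h ⟨j, hj⟩).resolve_left ?_⟩
      · by_cases hk : k = ⟨j, hj⟩
        · exact Or.inr (hk ▸ h)
        · exact Or.inl (cf_of_ne b (j := k) (k := ⟨j, hj⟩) (Ne.symm hk))
      · rw [cf_self b ⟨j, hj⟩]
        exact one_ne_zero
    · intro p j k hk hp hj hkpos
      have hcf : ∀ l : b.support, cf b k l = cf b p l + cf b j l := fun l => by simp [cf, hk]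
      have hjpos := Base.isPos_of_mem_support hj
      by_cases hppos : b.IsPos p
      · refine ⟨fun h l => ?_, fun h => ?_⟩
        · have hp' : negI P p ∈ S :=
            hS.1 (negI P k) j (negI P p) h (hb j hjpos) (by simp [hk])
          have hj' : negI P j ∈ S :=
            hS.1 (negI P k) p (negI P j) h (hb p hppos) (by simp [hk])
          rcases ((hp hppos).1 hp') l with h0 | h0
          · by_cases hl : l = ⟨j, hj⟩
            · exact Or.inr (hl ▸ hj')
            · exact Or.inl (by rw [hcf, h0, zero_add, cf_of_ne b (k := ⟨j, hj⟩) (Ne.symm hl)])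
          · exact Or.inr h0
        · have hnn : ∀ l : b.support, cf b k l = 0 → cf b p l = 0 ∧ cf b j l = 0 := fun l h0 => by
            rw [hcf] at h0
            exact (add_eq_zero_iff_of_nonneg (cf_nonneg hppos l) (cf_nonneg hjpos l)).1 h0
          refine hS.1 (negI P p) (negI P j) (negI P k)
            ((hp hppos).2 fun l => (h l).imp (fun h0 => (hnn l h0).1) id) ?_ (by simp [hk]; abel)
          refine (h ⟨j, hj⟩).resolve_left fun h0 => ?_
          have := (hnn _ h0).2
          rw [cf_self b ⟨j, hj⟩] at this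
          exact one_ne_zero this
      · exfalso
        have h1 := b.height_add hk
        rw [Base.height_one_of_mem_support hj] at h1
        have h2 : b.height p < 0 := by
          have := b.height_ne_zero p
          rw [Base.isPos_iff] at hppos
          omega
        rw [Base.isPos_iff] at hkpos
        omega
  refine ⟨F, ?_⟩
  ext i
  by_cases hi : b.IsPos i
  · exact iff_of_true (mem_parab_of_isPos hF hi) (hb i hi)
  · have hni := (isPos_negI_iff b i).2 hi
    have h1 : i ∈ F.parab ↔ sgnVec P y i = 0 := by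
      show F.sgn i ≠ -1 ↔ _
      rw [← hy]
      have hne : sgnVec P y (negI P i) ≠ -1 := by
        rw [sgnVec_ne_neg_one_iff]
        exact mem_closedChamber_iff.1 (hF hy) _ hni
      rw [sgnVec_negI] at hne
      revert hne
      generalize sgnVec P y i = s
      revert s
      decide
    rw [h1, sgnVec_eq_zero_iff_of_mem (hF hy), ← negI_negI (P := P) i, key _ hni, negI_negI]
    refine forall_congr' fun j => ?_
    rw [hzero, cf_negI, neg_eq_zero]

theorem existsUnique_facet_parab {S : Set ι} :
    IsParabolicSubset P S ↔ ∃! F : Facet P, F.parab = S := by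
  refine ⟨fun hS => ?_, fun ⟨F, hF, _⟩ => hF ▸ parab_isParabolic F⟩
  obtain ⟨F, hF⟩ := exists_facet_parab_eq hS
  exact ⟨F, hF, fun G hG => eq_of_parab_eq (hG.trans hF.symm)⟩

theorem mem_closure_iff_coweight (F : Facet P) {b : P.Base} (j : b.support) :
    (∀ y, Corr P (fundWeight b j) y → ∀ i ∈ F.parab, 0 ≤ P.root' i y) ↔
      fundWeight b j ∈ F.closure := by
  have h1 : (∀ y, Corr P (fundWeight b j) y → ∀ i ∈ F.parab, 0 ≤ P.root' i y) ↔
      ∀ i ∈ F.parab, 0 ≤ P.RootForm (P.root i) (fundWeight b j) := by
    simp only [corr_iff, forall_eq, root'_fundCoweight, rootForm_fund,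
      mul_nonneg_iff_of_pos_right (hl_pos (P := P) (j : ι))]
  rw [h1]
  constructor
  · intro h i
    rcases eq_or_ne (sgnVec P (fundWeight b j) i) 0 with h0 | h0
    · exact Or.inl h0
    right
    rw [sgnVec_eq] at h0 ⊢
    have hp : i ∈ F.parab → 0 < P.RootForm (P.root i) (fundWeight b j) := fun hi =>
      lt_of_le_of_ne (h i hi) (fun h' => h0 (by rw [← h', sign_zero]))
    rcases (parab_isParabolic F).2 i with hi | hi
    · have hni : negI P i ∉ F.parab := fun hn => by
        have := h _ hn
        rw [root_negI, map_neg, LinearMap.neg_apply] at this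
        linarith [hp hi]
      rw [sign_pos (hp hi), (sgn_eq_one_iff F i).2 ⟨hi, hni⟩]
    · have := h _ hi
      change 0 ≤ P.RootForm (P.root (negI P i)) (fundWeight b j) at this
      rw [root_negI, map_neg, LinearMap.neg_apply] at this
      have hi' : i ∉ F.parab := fun hi' => by linarith [hp hi']
      rw [(sgn_eq_neg_one_iff F i).2 hi', sign_neg]
      exact lt_of_le_of_ne (by linarith) (fun h' => h0 (by rw [h', sign_zero]))
  · intro h i hi
    rw [← coroot'_nonneg_iff, ← sgnVec_ne_neg_one_iff]
    rcases h i with h' | h' <;> rw [h']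
    · decide
    · exact hi

/-! ### The sum of the corners -/

theorem corners_finite (F : Facet P) : F.corners.Finite := by
  obtain ⟨b, hb⟩ := cham_nonempty F
  rw [corners_eq hb]
  exact (Set.toFinite _).image _

theorem sum_corners_mem_carrier (F : Facet P) :
    ∑ w ∈ (corners_finite F).toFinset, w ∈ F.carrier := by
  obtain ⟨b, hb⟩ := cham_nonempty F
  have : (corners_finite F).toFinset =
      (Finset.univ.filter fun j : b.support => F.sgn j = 1).image (fundWeight b) := by
    ext w
    simp [corners_eq hb]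
  rw [this, Finset.sum_image fun x _ y _ h => fundWeight_injective b h, mem_carrier_iff hb]
  intro k
  rw [map_sum]
  constructor
  · intro h1
    rw [Finset.sum_eq_single k]
    · rw [coroot'_fundWeight_self]; exact one_pos
    · intro j _ hj
      exact coroot'_fundWeight_of_ne b j k hj.symm
    · simp [h1]
  · intro h0
    refine Finset.sum_eq_zero fun j hj => coroot'_fundWeight_of_ne b j k fun h => ?_
    simp [← h, h0] at hj

theorem eq_of_corners_eq {F G : Facet P} (h : F.corners = G.corners) : F = G := by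
  refine facet_eq_of_mem (sum_corners_mem_carrier F) ?_
  convert sum_corners_mem_carrier G using 3

/-! ### The sum of the roots of the parabolic set -/

/-- The sum of the roots positive on a facet. -/
noncomputable def sig (F : Facet P) : M :=
  ∑ i ∈ Finset.univ.filter (fun i => F.sgn i = 1), P.root i

theorem sum_levi_eq_zero (F : Facet P) :
    ∑ i ∈ Finset.univ.filter (fun i => F.sgn i = 0), P.root i = 0 :=
  Finset.sum_involution (fun i _ => negI P i) (fun i _ => by simp)
    (fun i _ _ h => by
      have := congr_arg P.root h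
      rw [root_negI] at this
      exact P.ne_zero i ((smul_eq_zero.1 (show (2 : R) • P.root i = 0 by
        rw [two_smul]; nth_rw 2 [← this]; simp)).resolve_left two_ne_zero))
    (fun i hi => by simpa [Facet_sgn_negI] using hi) (fun i _ => negI_negI i)

theorem sum_parab_eq (F : Facet P) :
    ∑ i ∈ (Set.toFinite F.parab).toFinset, P.root i = sig F := by
  have : (Set.toFinite F.parab).toFinset =
      (Finset.univ.filter fun i => F.sgn i = 1) ∪ (Finset.univ.filter fun i => F.sgn i = 0) := by
    ext i
    simp only [Set.Finite.mem_toFinset, Finset.mem_union, Finset.mem_filter, Finset.mem_univ, true_and]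
    show F.sgn i ≠ -1 ↔ _
    generalize F.sgn i = s
    revert s
    decide
  rw [this, Finset.sum_union, sum_levi_eq_zero, add_zero, sig]
  rw [Finset.disjoint_filter]
  intro i _ h1 h0
  rw [h1] at h0
  exact absurd h0 (by decide)

theorem sgn_reflectionPerm (F : Facet P) {k : ι} (hk : F.sgn k = 0) (i : ι) :
    F.sgn (P.reflectionPerm k i) = F.sgn i := by
  obtain ⟨x, hx⟩ := F.exists_sgnVec_eq
  rw [← hx] at hk ⊢
  rw [sgnVec_eq_zero_iff] at hk
  have h1 : P.reflection k x = x := by rw [RootPairing.reflection_apply, hk, zero_smul, sub_zero]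
  have h2 : P.coroot' i (P.reflection k x) = P.coroot' (P.reflectionPerm k i) x :=
    P.coroot'_reflection x
  rw [h1] at h2
  unfold sgnVec
  rw [h2]

theorem coroot'_eq_zero_of_invariant {k : ι} {s : Finset ι}
    (h : ∀ i ∈ s, P.reflectionPerm k i ∈ s) : P.coroot' k (∑ i ∈ s, P.root i) = 0 := by
  have hfix : P.reflection k (∑ i ∈ s, P.root i) = ∑ i ∈ s, P.root i := by
    rw [map_sum]
    exact Finset.sum_nbij' (P.reflectionPerm k) (P.reflectionPerm k) h h (by simp) (by simp)
      (fun i _ => by rw [root_reflectionPerm])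
  rw [RootPairing.reflection_apply, sub_eq_self, smul_eq_zero] at hfix
  exact hfix.resolve_right (P.ne_zero k)

/-- The sum of the positive roots. -/
theorem coroot'_sum_pos (b : P.Base) (j : b.support) :
    P.coroot' j (∑ i ∈ Finset.univ.filter (fun i => b.IsPos i), P.root i) = 2 := by
  have hj : b.IsPos (j : ι) := Base.isPos_of_mem_support j.2
  rw [← Finset.insert_erase (Finset.mem_filter.2 ⟨Finset.mem_univ _, hj⟩),
    Finset.sum_insert (Finset.notMem_erase _ _), map_add, coroot'_eq_zero_of_invariant, add_zero]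
  · exact P.root_coroot_two j
  · intro i hi
    simp only [Finset.mem_erase, Finset.mem_filter, Finset.mem_univ, true_and] at hi ⊢
    refine ⟨fun h => ?_, hi.2.reflectionPerm j.2 hi.1⟩
    have h' : i = negI P j := by
      rw [← P.reflectionPerm_self (j : ι) i, h]
      rfl
    exact (isPos_negI_iff b _).1 (h' ▸ hi.2) hj

theorem pairing_nonpos {b : P.Base} {j k : b.support} (h : k ≠ j) :
    P.coroot' j (P.root k) ≤ 0 := by
  rw [root_coroot'_eq_pairing, ← P.algebraMap_pairingIn ℤ]
  have := b.pairingIn_le_zero_of_ne (fun h' => h (Subtype.ext h')) k.2 j.2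
  simpa using this

theorem coroot'_sig_pos {F : Facet P} {b : P.Base} (hb : b ∈ F.cham) {j : b.support}
    (hj : F.sgn j = 1) : 0 < P.coroot' j (sig F) := by
  obtain ⟨y, hy⟩ := F.exists_sgnVec_eq
  have hsplit : Finset.univ.filter (fun i => b.IsPos i) =
      Finset.univ.filter (fun i => F.sgn i = 1) ∪
      Finset.univ.filter (fun i => b.IsPos i ∧ F.sgn i = 0) := by
    ext i
    simp only [Finset.mem_union, Finset.mem_filter, Finset.mem_univ, true_and]
    constructor
    · intro hi
      have h1 : F.sgn i ≠ -1 := mem_parab_of_isPos hb hi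
      revert h1
      generalize F.sgn i = s
      revert s
      simp only [hi, true_and]
      decide
    · rintro (h | h)
      · by_contra h'
        refine ((sgn_eq_one_iff F i).1 h).2 (mem_parab_of_isPos hb ((isPos_negI_iff b i).2 h'))
      · exact h.1
  have h2 := coroot'_sum_pos b j
  rw [hsplit, Finset.sum_union, map_add] at h2
  · have h3 : P.coroot' j (∑ i ∈ Finset.univ.filter (fun i => b.IsPos i ∧ F.sgn i = 0), P.root i)
        ≤ 0 := by
      rw [map_sum]
      refine Finset.sum_nonpos fun i hi => ?_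
      simp only [Finset.mem_filter, Finset.mem_univ, true_and] at hi
      rw [apply_root b (P.coroot' j) i]
      refine Finset.sum_nonpos fun k _ => ?_
      rcases eq_or_ne k j with rfl | hkj
      · have h0 : sgnVec P y i = 0 := by rw [hy]; exact hi.2
        have hyk : P.coroot' (k : ι) y ≠ 0 := by
          rw [Ne, ← sgnVec_eq_zero_iff, hy, hj]
          decide
        rw [((sgnVec_eq_zero_iff_of_mem (hb hy) i).1 h0 k).resolve_right hyk, zero_mul]
      · exact mul_nonpos_of_nonneg_of_nonpos (cf_nonneg hi.1 k) (pairing_nonpos hkj)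
    rw [sig]
    linarith
  · rw [Finset.disjoint_filter]
    rintro i _ h1 ⟨-, h0⟩
    rw [h1] at h0
    exact absurd h0 (by decide)

theorem coroot'_sig_zero (F : Facet P) {k : ι} (hk : F.sgn k = 0) : P.coroot' k (sig F) = 0 :=
  coroot'_eq_zero_of_invariant fun i hi => by
    simpa [sgn_reflectionPerm F hk] using hi

theorem sig_mem_carrier (F : Facet P) : sig F ∈ F.carrier := by
  obtain ⟨b, hb⟩ := cham_nonempty F
  exact (mem_carrier_iff hb).2 fun j => ⟨coroot'_sig_pos hb, coroot'_sig_zero F⟩

/-! ### Elementary sets of roots -/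

theorem mem_Psi_iff {F : Facet P} {b : P.Base} (hb : b ∈ F.cham) {j : b.support} {i : ι} :
    i ∈ F.Psi (fundWeight b j) ↔
      cf b i j = 1 ∧ ∀ k : b.support, F.sgn k = 1 → k ≠ j → cf b i k = 0 := by
  simp only [Facet.Psi, Set.mem_ofPred_eq, corr_iff, forall_eq, root'_fundCoweight, corners_eq hb,
    Set.forall_mem_image]
  exact and_congr_right fun _ => ⟨fun h k hk hkj =>
      h hk fun he => hkj (fundWeight_injective b he),
    fun h k hk hkj => h k hk fun he => hkj (by rw [he])⟩

theorem sum_Psi_mem_span {F : Facet P} {b : P.Base} (hb : b ∈ F.cham) {j : b.support} (hj : F.sgn j = 1) :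
    ∑ i ∈ (Set.toFinite (F.Psi (fundWeight b j))).toFinset, P.root i ∈
      Submodule.span R F.corners := by
  refine sum_mem_span_corners hb fun k hk => coroot'_eq_zero_of_invariant fun i hi => ?_
  rw [Set.Finite.mem_toFinset, mem_Psi_iff hb] at hi ⊢
  have hcf : ∀ l : b.support, F.sgn l = 1 → cf b (P.reflectionPerm (k : ι) i) l = cf b i l := by
    intro l hl
    have hlk : k ≠ l := fun h => by rw [h, hl] at hk; exact absurd hk (by decide)
    simp only [cf, root_reflectionPerm, RootPairing.reflection_apply, map_sub, map_smul, Finsupp.coe_sub,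
      Finsupp.coe_smul, Pi.sub_apply, Pi.smul_apply]
    rw [show b.toWeightBasis.repr (P.root (k : ι)) l = cf b (k : ι) l from rfl, cf_of_ne b hlk]
    simp
  exact ⟨(hcf j hj).trans hi.1, fun l hl hlj => (hcf l hl).trans (hi.2 l hl hlj)⟩

end Groth.L24.RootCh
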