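import Groth.Agent.L24.RootCh.Parab
import Mathlib.Analysis.Convex.Combination
import Mathlib.LinearAlgebra.Dimension.Constructions

/-!
Complementary convex solids: dual solids, degrees.
-/

set_option autoImplicit false
set_option linter.unusedSectionVars false

open Function Set RootPairing Module
open scoped BigOperators Classical

namespace Groth.L24.RootCh

open _root_.RootCh

section Farkas

variable {κ R E : Type*} [Field R] [LinearOrder R] [IsStrictOrderedRing R]
  [AddCommGroup E] [Module R E]

/-- Farkas' lemma over an ordered field. -/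
theorem farkas (s : Finset κ) : ∀ (v : κ → E) (x : E),
    (∃ c : κ → R, (∀ i ∈ s, 0 ≤ c i) ∧ ∑ i ∈ s, c i • v i = x) ∨
      ∃ f : E →ₗ[R] R, (∀ i ∈ s, 0 ≤ f (v i)) ∧ f x < 0 := by
  induction s using Finset.induction with
  | empty =>
    intro v x
    by_cases hx : x = 0
    · exact Or.inl ⟨0, by simp, by simp [hx]⟩
    · obtain ⟨f, hf⟩ : ∃ f : E →ₗ[R] R, f x ≠ 0 := by
        by_contra! h
        exact hx ((Module.forall_dual_apply_eq_zero_iff R x).1 h)
      refine Or.inr ?_
      rcases lt_or_gt_of_ne hf with h | h
      · exact ⟨f, by simp, h⟩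
      · exact ⟨-f, by simp, by simpa using h⟩
  | @insert a s ha ih =>
    intro v x
    rcases ih v x with ⟨c, hc, hx⟩ | ⟨f, hf, hfx⟩
    · refine Or.inl ⟨fun i => if i = a then 0 else c i, fun i hi => ?_, ?_⟩
      · dsimp only
        split_ifs with h
        · exact le_rfl
        · exact hc i ((Finset.mem_insert.1 hi).resolve_left h)
      · dsimp only
        rw [Finset.sum_insert ha, if_pos rfl, zero_smul, zero_add, ← hx]
        exact Finset.sum_congr rfl fun i hi => by rw [if_neg fun h : i = a => ha (h ▸ hi)]
    rcases le_or_gt 0 (f (v a)) with hfa | hfa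
    · refine Or.inr ⟨f, fun i hi => ?_, hfx⟩
      rcases Finset.mem_insert.1 hi with h | h
      · rwa [h]
      · exact hf i h
    rcases ih (fun i => v i - (f (v i) / f (v a)) • v a) (x - (f x / f (v a)) • v a) with
      ⟨c, hc, hx⟩ | ⟨g, hg, hgx⟩
    · refine Or.inl ⟨fun i => if i = a then f x / f (v a) - ∑ k ∈ s, c k * (f (v k) / f (v a)) else c i,
        fun i hi => ?_, ?_⟩
      · dsimp only
        split_ifs with h
        · have h1 : 0 ≤ f x / f (v a) := (div_pos_of_neg_of_neg hfx hfa).le
          have h2 : ∑ k ∈ s, c k * (f (v k) / f (v a)) ≤ 0 := Finset.sum_nonpos fun k hk =>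
            mul_nonpos_of_nonneg_of_nonpos (hc k hk) (div_nonpos_of_nonneg_of_nonpos (hf k hk) hfa.le)
          linarith
        · exact hc i ((Finset.mem_insert.1 hi).resolve_left h)
      · have hs : ∀ i ∈ s, (if i = a then f x / f (v a) - ∑ k ∈ s, c k * (f (v k) / f (v a)) else c i)
            • v i = c i • v i := fun i hi => by rw [if_neg fun h : i = a => ha (h ▸ hi)]
        dsimp only
        rw [Finset.sum_insert ha, if_pos rfl, Finset.sum_congr rfl hs]
        simp only [smul_sub, smul_smul, Finset.sum_sub_distrib, ← Finset.sum_smul] at hx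
        rw [sub_smul]
        linear_combination (norm := module) hx
    · refine Or.inr ⟨g - (g (v a) / f (v a)) • f, fun i hi => ?_, ?_⟩
      · simp only [LinearMap.sub_apply, LinearMap.smul_apply, smul_eq_mul]
        rcases Finset.mem_insert.1 hi with h | h
        · rw [h, div_mul_cancel₀ _ hfa.ne, sub_self]
        · have := hg i h
          rw [map_sub, map_smul, smul_eq_mul] at this
          convert this using 1
          ring
      · simp only [LinearMap.sub_apply, LinearMap.smul_apply, smul_eq_mul]
        rw [map_sub, map_smul, smul_eq_mul] at hgx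
        convert hgx using 1
        ring

/-- A finite set of points is separated from any point outside its convex hull. -/
theorem exists_separating {s : Set E} (hs : s.Finite) {x : E} (hx : x ∉ convexHull R s) :
    ∃ g : E →ₗ[R] R, ∀ p ∈ s, g x < g p := by
  rcases farkas (R := R) hs.toFinset (fun p : E => (p, (1 : R))) (x, (1 : R)) with ⟨c, hc, hsum⟩ | ⟨f, hf, hfx⟩
  · refine absurd ?_ hx
    have h1 := congr_arg Prod.fst hsum
    have h2 := congr_arg Prod.snd hsum
    simp only [Prod.fst_sum, Prod.snd_sum, Prod.smul_fst, Prod.smul_snd, smul_eq_mul, mul_one] at h1 h2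
    rw [← h1]
    exact (convex_convexHull R s).sum_mem hc h2
      fun i hi => subset_convexHull R s (hs.mem_toFinset.1 hi)
  · refine ⟨f.comp (LinearMap.inl R E R), fun p hp => ?_⟩
    have := hf p (hs.mem_toFinset.2 hp)
    have hd : ∀ q : E, f (q, (1 : R)) = f.comp (LinearMap.inl R E R) q + f (0, 1) := fun q => by
      simp [← map_add]
    rw [hd] at this hfx
    linarith

end Farkas

variable {ι R M N : Type*} [Field R] [LinearOrder R] [IsStrictOrderedRing R]
  [AddCommGroup M] [Module R M] [AddCommGroup N] [Module R N]
  [Fintype ι] {P : RootPairing ι R M N} [P.IsRootSystem] [P.IsCrystallographic] [P.IsReduced]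
  {d : P.Base → N}

theorem base_finite (P : RootPairing ι R M N) [P.IsRootSystem] [P.IsCrystallographic] [P.IsReduced] :
    Finite P.Base :=
  Finite.of_injective (fun b : P.Base => b.support) fun b c (h : b.support = c.support) => by
    cases b
    cases c
    cases h
    rfl

theorem eq_of_apply_eq (hd : IsCCS d) {b c : P.Base} {x : M}
    (h : ∀ j : b.support, P.coroot' j x ≠ 0 → fundWeight b j ∈ baseCorners c) :
    P.toLinearMap x (d b) = P.toLinearMap x (d c) := by
  rw [eq_sum_fundWeight b x]
  simp only [map_sum, map_smul, LinearMap.coe_sum, Finset.sum_apply, LinearMap.smul_apply]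
  refine Finset.sum_congr rfl fun j _ => ?_
  rcases eq_or_ne (P.coroot' j x) 0 with h0 | h0
  · rw [h0, zero_smul, zero_smul]
  · rw [hd.corner_eq b c _ (by rw [baseCorners_eq]; exact ⟨j, rfl⟩) (h j h0)]

theorem eq_of_mem_span {F : Facet P} (hd : IsCCS d) {b c : P.Base} (hb : b ∈ F.cham) (hc : c ∈ F.cham)
    {x : M} (hx : x ∈ Submodule.span R F.corners) :
    P.toLinearMap x (d b) = P.toLinearMap x (d c) := by
  refine eq_of_apply_eq hd fun j hj => corners_subset_baseCorners hc ?_
  rw [corners_eq hb]
  exact ⟨j, (sgn_simple hb j).resolve_left fun h0 => hj ((mem_span_corners_iff hb).1 hx j h0), rfl⟩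

/-- The value of the solid at a chamber containing a vector is the smallest one on this vector. -/
theorem apply_le_of_mem_closedChamber (hd : IsCCS d) {x : M} {c : P.Base} (hx : x ∈ closedChamber c)
    (b : P.Base) : P.toLinearMap x (d c) ≤ P.toLinearMap x (d b) := by
  induction hn : (Finset.univ.filter fun i => b.IsPos i ∧ P.coroot' i x < 0).card
    using Nat.strong_induction_on generalizing b with
  | _ n ih =>
    by_cases hj : ∃ j ∈ b.support, P.coroot' j x < 0
    · obtain ⟨j, hj, hjx⟩ := hj
      obtain ⟨e, he⟩ := exists_refl_base b ⟨j, hj⟩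
      have hnj : ¬ b.IsPos (negI P j) := fun h =>
        (isPos_negI_iff b j).1 h (Base.isPos_of_mem_support hj)
      have hlt : (Finset.univ.filter fun i => e.IsPos i ∧ P.coroot' i x < 0).card < n := by
        rw [← hn]
        refine Finset.card_lt_card ((Finset.ssubset_iff_of_subset fun i hi => ?_).2 ⟨j, ?_, ?_⟩)
        · simp only [Finset.mem_filter, Finset.mem_univ, true_and] at hi ⊢
          rcases (he i).1 hi.1 with h | h
          · exact ⟨h.1, hi.2⟩
          · exfalso
            have := hi.2
            rw [h] at this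
            rw [← not_le, coroot'_nonneg_iff] at this hjx
            rw [root_negI, map_neg, LinearMap.neg_apply] at this
            exact this (by linarith [not_le.1 hjx])
        · simp only [Finset.mem_filter, Finset.mem_univ, true_and]
          exact ⟨Base.isPos_of_mem_support hj, hjx⟩
        · simp only [Finset.mem_filter, Finset.mem_univ, true_and]
          rintro ⟨h, -⟩
          rcases (he j).1 h with h' | h'
          · exact h'.2 rfl
          · exact hnj (h' ▸ Base.isPos_of_mem_support hj)
      refine (ih _ hlt e rfl).trans ?_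
      have hinter := baseCorners_inter ⟨j, hj⟩ he
      have hcard : (baseCorners b ∩ baseCorners e).ncard + 1 = b.support.card := by
        rw [hinter, Set.ncard_image_of_injective _ (fundWeight_injective b),
          show ({k : b.support | k ≠ ⟨j, hj⟩} : Set b.support) = {⟨j, hj⟩}ᶜ from rfl,
          Set.ncard_compl, Set.ncard_singleton, Nat.card_eq_fintype_card, Fintype.card_coe]
        have := Finset.card_pos.2 ⟨j, hj⟩
        omega
      have hwall := hd.wall_le b e j hcard fun i => by
        constructor
        · rintro ⟨hi, hi'⟩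
          by_contra hij
          exact hi' ((he i).2 (Or.inl ⟨hi, hij⟩))
        · intro hij
          rw [hij]
          refine ⟨Base.isPos_of_mem_support hj, fun h => ?_⟩
          rcases (he j).1 h with h' | h'
          · exact h'.2 rfl
          · exact hnj (h' ▸ Base.isPos_of_mem_support hj)
      have hexp : ∀ y : M, P.toLinearMap y (d e - d b) =
          P.coroot' j y * P.toLinearMap (fundWeight b ⟨j, hj⟩) (d e - d b) := by
        intro y
        conv_lhs => rw [eq_sum_fundWeight b y]
        simp only [map_sum, map_smul, LinearMap.coe_sum, Finset.sum_apply, LinearMap.smul_apply,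
          smul_eq_mul]
        rw [Finset.sum_eq_single (⟨j, hj⟩ : b.support)]
        · intro k _ hk
          have hkm : fundWeight b k ∈ baseCorners b ∩ baseCorners e := by
            rw [hinter]; exact ⟨k, hk, rfl⟩
          rw [map_sub, hd.corner_eq b e _ hkm.1 hkm.2, sub_self, mul_zero]
        · simp
      have h0 : 0 ≤ P.toLinearMap (fundWeight b ⟨j, hj⟩) (d e - d b) := by
        have h1 := hexp (P.root j)
        rw [show P.coroot' j (P.root j) = 2 from P.root_coroot_two j, map_sub] at h1
        simp only [RootPairing.root'] at hwall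
        linarith
      have h2 := hexp x
      rw [map_sub] at h2
      have : P.coroot' j x * P.toLinearMap (fundWeight b ⟨j, hj⟩) (d e - d b) ≤ 0 :=
        mul_nonpos_of_nonpos_of_nonneg hjx.le h0
      linarith
    · push Not at hj
      refine (eq_of_apply_eq hd fun k hk => ?_).ge
      have hF : c ∈ (Facet.ofVec P x).cham := mem_cham_ofVec hx
      have hFb : b ∈ (Facet.ofVec P x).cham := mem_cham_ofVec hj
      refine corners_subset_baseCorners hF ?_
      rw [corners_eq hFb]
      exact ⟨k, (sgn_simple hFb k).resolve_left fun h0 => hk ((sgnVec_eq_zero_iff (P := P) x k).1 h0), rfl⟩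

theorem apply_le_of_mem_solid (hd : IsCCS d) {x : M} {c : P.Base} (hx : x ∈ closedChamber c)
    {y : N} (hy : y ∈ solid d) : P.toLinearMap x (d c) ≤ P.toLinearMap x y := by
  have hconv : Convex R {y : N | P.toLinearMap x (d c) ≤ P.toLinearMap x y} :=
    convex_halfSpace_ge (P.toLinearMap x).isLinear _
  exact convexHull_min (by rintro _ ⟨b, rfl⟩; exact apply_le_of_mem_closedChamber hd hx b) hconv hy

theorem dualSolid_subset_solid (F : Facet P) : dualSolid d F ⊆ solid d :=
  convexHull_mono (Set.image_subset_range _ _)

theorem mem_dualSolid_iff (hd : IsCCS d) (F : Facet P) (y : N) :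
    y ∈ dualSolid d F ↔
      y ∈ (⋂ m ∈ F.corners, hyper d m) ∩ ⋂ m ∈ F.corners', halfClosed d m := by
  simp only [Set.mem_inter_iff, Set.mem_iInter, hyper, halfClosed, Set.mem_ofPred_eq]
  constructor
  · intro hy
    refine ⟨fun m hm b hbm => ?_, fun m _ b hbm =>
      apply_le_of_mem_solid hd hbm.2 (dualSolid_subset_solid F hy)⟩
    have hconv : Convex R {y : N | P.toLinearMap m y = P.toLinearMap m (d b)} :=
      convex_hyperplane (P.toLinearMap m).isLinear _
    refine convexHull_min ?_ hconv hy
    rintro _ ⟨c, hc, rfl⟩
    exact hd.corner_eq c b m (corners_subset_baseCorners hc hm) hbm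
  · rintro ⟨hy₁, hy₂⟩
    by_contra hy
    have := base_finite P
    obtain ⟨g, hg⟩ := exists_separating ((Set.toFinite F.cham).image d) hy
    obtain ⟨ξ, rfl⟩ := P.toPerfPair.surjective g
    obtain ⟨b, hb, hnn⟩ := exists_cham_nonneg F ξ
    have h1 := hg (d b) ⟨b, hb, rfl⟩
    simp only [LinearMap.toPerfPair_apply] at h1
    refine absurd h1 (not_lt.2 ?_)
    rw [eq_sum_fundWeight b ξ]
    simp only [map_sum, map_smul, LinearMap.coe_sum, Finset.sum_apply, LinearMap.smul_apply, smul_eq_mul]
    refine Finset.sum_le_sum fun j _ => ?_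
    have hjb : fundWeight b j ∈ baseCorners b := by rw [baseCorners_eq]; exact ⟨j, rfl⟩
    rcases sgn_simple hb j with h0 | h1'
    · exact mul_le_mul_of_nonneg_left
        (hy₂ _ (Set.mem_biUnion hb hjb) b hjb) (hnn j j.2 h0)
    · rw [hy₁ _ (by rw [corners_eq hb]; exact ⟨j, h1', rfl⟩) b hjb]

theorem deg_eq (F : Facet P) (b : P.Base) : F.deg d b = P.toLinearMap (sig F) (d b) := by
  rw [← sum_parab_eq]
  simp [Facet.deg]

theorem deg_eq_deg (hd : IsCCS d) {F : Facet P} {b c : P.Base} (hb : b ∈ F.cham) (hc : c ∈ F.cham) :
    F.deg d b = F.deg d c := by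
  rw [deg_eq, deg_eq]
  exact eq_of_mem_span hd hb hc (carrier_subset_span_corners F (sig_mem_carrier F))

theorem numInv_eq (F : Facet P) (w : M) (b : P.Base) :
    F.numInv d w b = P.toLinearMap (∑ i ∈ (Set.toFinite (F.Psi w)).toFinset, P.root i) (d b) := by
  simp [Facet.numInv]

theorem mem_cham_origin (b : P.Base) : b ∈ (Facet.origin P).cham :=
  mem_cham_iff.2 fun j _ => by simp [Facet.origin, Facet.ofVec, sgnVec]

theorem corners_origin : (Facet.origin P).corners = ∅ := by
  obtain ⟨x, hx⟩ := exists_regular P
  obtain ⟨b, -⟩ := exists_base_of_regular hx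
  rw [corners_eq (mem_cham_origin b)]
  simp [Facet.origin, Facet.ofVec, sgnVec]

theorem dualSolid_origin : dualSolid d (Facet.origin P) = solid d := by
  rw [dualSolid, solid, Set.eq_univ_of_forall (s := (Facet.origin P).cham) mem_cham_origin,
    Set.image_univ]

theorem isSemistable_iff (hd : IsCCS d) :
    (∀ b : P.Base, ∀ m ∈ baseCorners b, P.toLinearMap m (d b) ≤ 0) ↔ IsSemistable d := by
  constructor
  · intro h
    rw [IsSemistable, ← dualSolid_origin, mem_dualSolid_iff hd, corners_origin]
    simp only [Set.mem_inter_iff, Set.mem_iInter, Set.mem_empty_iff_false, halfClosed,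
      Set.mem_ofPred_eq, map_zero, IsEmpty.forall_iff, implies_true, true_and]
    exact fun m _ b hbm => h b m hbm
  · intro h b m hm
    simpa using apply_le_of_mem_solid hd hm.2 (y := 0) h

theorem dim_eq (F : Facet P) {b : P.Base} (hb : b ∈ F.cham) :
    F.dim = (Finset.univ.filter fun j : b.support => F.sgn j = 1).card := by
  have hspan : Submodule.span R F.carrier = Submodule.span R F.corners := by
    refine le_antisymm (Submodule.span_le.2 (carrier_subset_span_corners F)) (Submodule.span_le.2 ?_)
    intro w hw
    rw [corners_eq hb] at hw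
    obtain ⟨j, hj, rfl⟩ := hw
    have h1 := sum_corners_mem_carrier F
    have h2 : (∑ w ∈ (corners_finite F).toFinset, w) + fundWeight b j ∈ F.carrier := by
      rw [mem_carrier_iff hb] at h1 ⊢
      intro k
      rw [map_add]
      rcases eq_or_ne k j with rfl | hk
      · rw [coroot'_fundWeight_self]
        refine ⟨fun h => by linarith [(h1 k).1 h], fun h => ?_⟩
        exact absurd (h.symm.trans hj) (by decide)
      · rw [coroot'_fundWeight_of_ne b j k hk, add_zero]
        exact h1 k
    simpa using Submodule.sub_mem _ (Submodule.subset_span (R := R) h2) (Submodule.subset_span h1)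
  rw [Facet.dim, hspan, corners_eq hb, Set.image_eq_range]
  refine (finrank_span_eq_card (R := R)
    ((linearIndependent_fundWeight b).comp Subtype.val Subtype.val_injective)).trans ?_
  simp [Fintype.card_subtype]

theorem forall_deg_le_iff (hd : IsCCS d) (Q : Facet P → Prop)
    (hQ : ∀ (F : Facet P) (b : P.Base) (j : b.support), b ∈ F.cham →
      (∀ k : b.support, F.sgn k = 1 ↔ k = j) → Q F) :
    (∀ (F : Facet P) (b : P.Base), Q F → b ∈ F.cham → F.deg d b ≤ 0) ↔ IsSemistable d := by
  constructor
  · intro h
    rw [← isSemistable_iff hd]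
    intro b m hm
    rw [baseCorners_eq] at hm
    obtain ⟨j, rfl⟩ := hm
    obtain ⟨F, hF, hsgn⟩ := exists_facet b {j}
    have hdeg := h F b (hQ F b j hF hsgn) hF
    rw [deg_eq] at hdeg
    have h1 := (mem_carrier_iff hF).1 (sig_mem_carrier F)
    have heq : sig F = P.coroot' j (sig F) • fundWeight b j := by
      conv_lhs => rw [eq_sum_fundWeight b (sig F)]
      rw [Finset.sum_eq_single j]
      · intro k _ hk
        rw [(h1 k).2 ((sgn_simple hF k).resolve_right fun h' => hk ((hsgn k).1 h')), zero_smul]
      · simp
    rw [heq, map_smul, LinearMap.smul_apply, smul_eq_mul] at hdeg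
    exact nonpos_of_mul_nonpos_right hdeg ((h1 j).1 ((hsgn j).2 rfl))
  · intro h F b _ hb
    rw [deg_eq]
    simpa using apply_le_of_mem_solid hd (hb (sig_mem_carrier F)) (y := 0) h

end Groth.L24.RootCh
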