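import Groth.Agent.L24.RootCh.Solid
import Mathlib.LinearAlgebra.FiniteDimensional.Basic
import Mathlib.LinearAlgebra.Dual.Lemmas

/-!
Special facets of a complementary convex solid.
-/

set_option autoImplicit false
set_option linter.unusedSectionVars false

open Function Set RootPairing Module
open scoped BigOperators Classical

namespace Groth.L24.RootCh

open _root_.RootCh

variable {ι R M N : Type*} [Field R] [LinearOrder R] [IsStrictOrderedRing R]
  [AddCommGroup M] [Module R M] [AddCommGroup N] [Module R N]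
  [Fintype ι] {P : RootPairing ι R M N} [P.IsRootSystem] [P.IsCrystallographic] [P.IsReduced]
  {d : P.Base → N}

theorem pol_mem_dualCarrier_iff (F : Facet P) (x : M) :
    P.Polarization x ∈ F.dualCarrier ↔ x ∈ F.carrier := by
  simp only [Facet.dualCarrier, Facet.carrier, Set.mem_ofPred_eq, cosgnVec_pol]

theorem span_dualCarrier (F : Facet P) :
    Submodule.span R F.dualCarrier = (Submodule.span R F.corners).map P.Polarization := by
  have h : F.dualCarrier = P.Polarization '' F.carrier := by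
    ext y
    obtain ⟨x, rfl⟩ := pol_surjective (P := P) y
    rw [pol_mem_dualCarrier_iff, pol_injective.mem_set_image]
  rw [h, ← Submodule.map_span]
  congr 1
  refine le_antisymm (Submodule.span_le.2 (carrier_subset_span_corners F)) (Submodule.span_le.2 ?_)
  obtain ⟨b, hb⟩ := cham_nonempty F
  intro w hw
  rw [corners_eq hb] at hw
  obtain ⟨j, hj, rfl⟩ := hw
  have h1 := sum_corners_mem_carrier F
  have h2 : (∑ w ∈ (corners_finite F).toFinset, w) + fundWeight b j ∈ F.carrier := by
    rw [mem_carrier_iff hb] at h1 ⊢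
    intro k
    rw [map_add]
    rcases eq_or_ne k j with rfl | hk
    · rw [coroot'_fundWeight_self]
      exact ⟨fun h => by linarith [(h1 k).1 h], fun h => absurd (h.symm.trans hj) (by decide)⟩
    · rw [coroot'_fundWeight_of_ne b j k hk, add_zero]
      exact h1 k
  simpa using Submodule.sub_mem _ (Submodule.subset_span (R := R) h2) (Submodule.subset_span h1)

theorem pol_mem_span_dualCarrier_iff (F : Facet P) (x : M) :
    P.Polarization x ∈ Submodule.span R F.dualCarrier ↔ x ∈ Submodule.span R F.corners := by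
  rw [span_dualCarrier, Submodule.mem_map]
  exact ⟨fun ⟨y, hy, h⟩ => pol_injective h ▸ hy, fun h => ⟨x, h, rfl⟩⟩

theorem mem_hyper_iff (hd : IsCCS d) {F : Facet P} {b : P.Base} (hb : b ∈ F.cham) (y : N) :
    y ∈ (⋂ m ∈ F.corners, hyper d m) ↔
      ∀ w ∈ Submodule.span R F.corners, P.toLinearMap w y = P.toLinearMap w (d b) := by
  simp only [Set.mem_iInter, hyper, Set.mem_ofPred_eq]
  constructor
  · intro h w hw
    induction hw using Submodule.span_induction with
    | mem m hm => exact h m hm b (corners_subset_baseCorners hb hm)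
    | zero => simp
    | add u v _ _ hu hv => simp [hu, hv]
    | smul a u _ hu => simp [hu]
  · intro h m hm c hc
    rw [h m (Submodule.subset_span hm), hd.corner_eq b c m (corners_subset_baseCorners hb hm) hc]

theorem mem_yLocus_iff (hd : IsCCS d) {F : Facet P} {b : P.Base} (hb : b ∈ F.cham) (z : M) :
    P.Polarization z ∈ yLocus d F ↔ z ∈ Submodule.span R F.corners ∧
      ∀ w ∈ Submodule.span R F.corners, P.toLinearMap w (P.Polarization z) = P.toLinearMap w (d b) := by
  simp only [yLocus, Set.mem_inter_iff, mem_hyper_iff hd hb, SetLike.mem_coe,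
    pol_mem_span_dualCarrier_iff]
  exact and_comm

theorem exists_yLocus (hd : IsCCS d) (F : Facet P) : ∃ y₀ : N, yLocus d F = {y₀} := by
  obtain ⟨b, hb⟩ := cham_nonempty F
  have : Module.Finite R M := Module.Finite.of_basis b.toWeightBasis
  let W := Submodule.span R F.corners
  let Φ : W →ₗ[R] Module.Dual R W := (P.RootForm.compl₁₂ W.subtype W.subtype)
  have hinj : Function.Injective Φ := by
    rw [← LinearMap.ker_eq_bot, LinearMap.ker_eq_bot']
    intro x hx
    by_contra hx0
    have := rootForm_pos (P := P) (x := (x : M)) (fun h => hx0 (Subtype.ext h))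
    rw [show P.RootForm (x : M) (x : M) = Φ x x from rfl, hx] at this
    simp at this
  have hsurj : Function.Surjective Φ :=
    (LinearMap.injective_iff_surjective_of_finrank_eq_finrank Subspace.dual_finrank_eq.symm).1 hinj
  obtain ⟨z, hz⟩ := hsurj ((P.toLinearMap.flip (d b)).domRestrict W)
  have hz' : ∀ w ∈ W, P.toLinearMap w (P.Polarization (z : M)) = P.toLinearMap w (d b) := by
    intro w hw
    rw [apply_pol]
    exact LinearMap.congr_fun hz ⟨w, hw⟩
  refine ⟨P.Polarization (z : M), Set.eq_singleton_iff_unique_mem.2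
    ⟨(mem_yLocus_iff hd hb _).2 ⟨z.2, hz'⟩, fun y hy => ?_⟩⟩
  obtain ⟨x, rfl⟩ := pol_surjective (P := P) y
  rw [mem_yLocus_iff hd hb] at hy
  have hsub : x - (z : M) ∈ W := W.sub_mem hy.1 z.2
  have h0 : P.RootForm (x - (z : M)) (x - (z : M)) = 0 := by
    conv_lhs => rw [map_sub P.RootForm, LinearMap.sub_apply]
    rw [← apply_pol, ← apply_pol (z : M), hy.2 _ hsub, hz' _ hsub, sub_self]
  rw [sub_eq_zero.1 (P.eq_zero_of_mem_rootSpan_of_rootForm_self_eq_zero (by simp) h0)]

theorem mem_yLocus_of_mem (hd : IsCCS d) {F : Facet P} {y : N} (h₁ : y ∈ dualSolid d F)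
    (h₂ : y ∈ Submodule.span R F.dualCarrier) : y ∈ yLocus d F :=
  ⟨((mem_dualSolid_iff hd F y).1 h₁).1, h₂⟩

theorem special_point (hd : IsCCS d) {F : Facet P} (hF : IsSpecial d F) :
    ∃ y₀, yLocus d F = {y₀} ∧ F.dualCarrier ∩ dualSolid d F = {y₀} := by
  obtain ⟨y₀, hy₀⟩ := exists_yLocus hd F
  refine ⟨y₀, hy₀, ?_⟩
  have hsub : F.dualCarrier ∩ dualSolid d F ⊆ {y₀} := fun y hy =>
    hy₀ ▸ mem_yLocus_of_mem hd hy.2 (Submodule.subset_span hy.1)
  exact (Set.Nonempty.subset_singleton_iff hF).1 hsub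

theorem cf_zero_of_sgn_zero {F : Facet P} {b : P.Base} (hb : b ∈ F.cham) {i : ι} (hi : F.sgn i = 0)
    {l : b.support} (hl : F.sgn l = 1) : cf b i l = 0 := by
  obtain ⟨x, hx⟩ := F.exists_sgnVec_eq
  refine ((sgnVec_eq_zero_iff_of_mem (hb hx) i).1 (by rw [hx]; exact hi) l).resolve_right ?_
  rw [← sgnVec_eq_zero_iff, hx, hl]
  decide

theorem rootForm_eq_single {F : Facet P} {b : P.Base} (hb : b ∈ F.cham) {z : M}
    (hz : z ∈ Submodule.span R F.corners) {i : ι} {j : b.support}
    (h : ∀ l : b.support, F.sgn l = 1 → l ≠ j → cf b i l = 0) :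
    P.RootForm (P.root i) z = cf b i j * P.RootForm (P.root j) z := by
  rw [rootForm_root_sum b i, Finset.sum_eq_single j]
  · intro l _ hlj
    rcases sgn_simple hb l with h0 | h1
    · rw [(coroot'_eq_zero_iff (P := P) z l).1 ((mem_span_corners_iff hb).1 hz l h0), mul_zero]
    · rw [h l h1 hlj, zero_mul]
  · simp

theorem numInv_eq_mul (hd : IsCCS d) {F : Facet P} {b : P.Base} (hb : b ∈ F.cham) {j : b.support}
    (hj : F.sgn j = 1) {z : M} (hz : P.Polarization z ∈ yLocus d F) :
    F.numInv d (fundWeight b j) b =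
      ((Set.toFinite (F.Psi (fundWeight b j))).toFinset.card : R) * P.RootForm (P.root j) z := by
  rw [mem_yLocus_iff hd hb] at hz
  rw [numInv_eq, ← hz.2 _ (sum_Psi_mem_span hb hj), apply_pol, map_sum]
  rw [← nsmul_eq_mul, ← Finset.sum_const]
  refine Finset.sum_congr rfl fun i hi => ?_
  rw [Set.Finite.mem_toFinset, mem_Psi_iff hb] at hi
  rw [rootForm_comm, rootForm_eq_single hb hz.1 hi.2, hi.1, one_mul]

theorem card_Psi_pos {F : Facet P} {b : P.Base} (hb : b ∈ F.cham) (j : b.support) :
    (0 : R) < ((Set.toFinite (F.Psi (fundWeight b j))).toFinset.card : R) := by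
  rw [Nat.cast_pos, Finset.card_pos]
  exact ⟨j, by
    rw [Set.Finite.mem_toFinset, mem_Psi_iff hb]
    exact ⟨cf_self b j, fun k _ hk => cf_of_ne b hk.symm⟩⟩

theorem isSpecial_iff (hd : IsCCS d) (F : Facet P) :
    ((∀ m ∈ F.corners, ∀ b ∈ F.cham, 0 < F.numInv d m b) ∧
        (dualSolid d F ∩ (Submodule.span R F.dualCarrier : Set N)).Nonempty) ↔ IsSpecial d F := by
  constructor
  · rintro ⟨hpos, y, hy₁, hy₂⟩
    refine ⟨y, ?_, hy₁⟩
    obtain ⟨z, rfl⟩ := pol_surjective (P := P) y
    obtain ⟨b, hb⟩ := cham_nonempty F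
    have hz := mem_yLocus_of_mem hd hy₁ hy₂
    rw [pol_mem_dualCarrier_iff, mem_carrier_iff hb]
    refine fun j => ⟨fun hj => ?_,
      (mem_span_corners_iff hb).1 ((mem_yLocus_iff hd hb z).1 hz).1 j⟩
    have h := hpos (fundWeight b j) (by rw [corners_eq hb]; exact ⟨j, hj, rfl⟩) b hb
    rw [numInv_eq_mul hd hb hj hz] at h
    exact (coroot'_pos_iff (P := P) z j).2 (pos_of_mul_pos_right h (card_Psi_pos hb j).le)
  · rintro ⟨y, hy₁, hy₂⟩
    refine ⟨fun m hm b hb => ?_, y, hy₂, Submodule.subset_span hy₁⟩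
    rw [corners_eq hb] at hm
    obtain ⟨j, hj, rfl⟩ := hm
    obtain ⟨z, rfl⟩ := pol_surjective (P := P) y
    rw [numInv_eq_mul hd hb hj (mem_yLocus_of_mem hd hy₂ (Submodule.subset_span hy₁))]
    rw [pol_mem_dualCarrier_iff, mem_carrier_iff hb] at hy₁
    exact mul_pos (card_Psi_pos hb j) ((coroot'_pos_iff (P := P) z j).1 ((hy₁ j).1 hj))

theorem special_greatest (hd : IsCCS d) {F : Facet P} {b : P.Base} (hb : b ∈ F.cham)
    (hF : IsSpecial d F) :
    (∀ (G : Facet P) (c : P.Base), c ∈ G.cham → G.deg d c ≤ F.deg d b) ∧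
      ∀ (G : Facet P) (c : P.Base), c ∈ G.cham → G.deg d c = F.deg d b → G ≤ F := by
  obtain ⟨y, hy₁, hy₂⟩ := hF
  have hsgn : ∀ i, SignType.sign (P.root' i y) = F.sgn i := fun i => congr_fun hy₁ i
  have hdegF : F.deg d b =
      ∑ i, if F.sgn i = 1 then P.root' i y else 0 := by
    rw [deg_eq, ← (mem_hyper_iff hd hb y).1 ((mem_dualSolid_iff hd F y).1 hy₂).1 _
      (carrier_subset_span_corners F (sig_mem_carrier F)), sig, map_sum, LinearMap.coe_sum,
      Finset.sum_apply, Finset.sum_filter]
  have key : ∀ (G : Facet P) (c : P.Base), c ∈ G.cham →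
      G.deg d c ≤ ∑ i, if G.sgn i = 1 then P.root' i y else 0 := by
    intro G c hc
    rw [deg_eq]
    refine (apply_le_of_mem_solid hd (hc (sig_mem_carrier G)) (dualSolid_subset_solid F hy₂)).trans
      (le_of_eq ?_)
    rw [sig, map_sum, LinearMap.coe_sum, Finset.sum_apply, Finset.sum_filter]
  have term : ∀ (G : Facet P) (i : ι), (if G.sgn i = 1 then P.root' i y else 0) ≤
      (if F.sgn i = 1 then P.root' i y else 0) := by
    intro G i
    rcases lt_trichotomy (P.root' i y) 0 with h | h | h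
    · rw [if_neg (show ¬ F.sgn i = 1 by rw [← hsgn, sign_neg h]; decide)]
      split_ifs
      · exact h.le
      · exact le_rfl
    · simp [h]
    · rw [if_pos (show F.sgn i = 1 by rw [← hsgn, sign_pos h])]
      split_ifs
      · exact le_rfl
      · exact h.le
  refine ⟨fun G c hc => ?_, fun G c hc hdeg => ?_⟩
  · rw [hdegF]
    exact (key G c hc).trans (Finset.sum_le_sum fun i _ => term G i)
  · have hall : ∀ i, F.sgn i = 1 → G.sgn i = 1 := by
      intro i hi
      have h1 : (∑ i, if G.sgn i = 1 then P.root' i y else 0) =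
          ∑ i, if F.sgn i = 1 then P.root' i y else 0 :=
        le_antisymm (Finset.sum_le_sum fun i _ => term G i) (hdegF ▸ hdeg ▸ key G c hc)
      have h2 := (Finset.sum_eq_sum_iff_of_le fun i _ => term G i).1 h1 i (Finset.mem_univ i)
      rw [if_pos hi] at h2
      by_contra hG
      rw [if_neg hG] at h2
      have h3 := hsgn i
      rw [← h2, sign_zero, hi] at h3
      exact absurd h3 (by decide)
    rw [Facet.le_def]
    intro i
    have h1 := hall i
    have h2 := hall (negI P i)
    rw [Facet_sgn_negI, Facet_sgn_negI] at h2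
    revert h1 h2
    generalize F.sgn i = s
    generalize G.sgn i = t
    revert s t
    decide

theorem le_of_sgn {F G : Facet P} {b : P.Base} (hF : b ∈ F.cham) (hG : b ∈ G.cham)
    (h : ∀ j : b.support, F.sgn j = 0 → G.sgn j = 0) : F ≤ G := by
  obtain ⟨x, hx⟩ := G.exists_sgnVec_eq
  have hc : x ∈ F.closure := (mem_closure_iff hF).2
    ⟨hG hx, fun j hj => (sgnVec_eq_zero_iff (P := P) x j).1 (by rw [hx]; exact h j hj)⟩
  rw [Facet.le_def]
  intro i
  have := hc i
  rwa [hx] at this

theorem sig_sub {F G : Facet P} (h : F ≤ G) :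
    sig F - sig G = ∑ i ∈ Finset.univ.filter (fun i => F.sgn i = 1 ∧ G.sgn i = 0), P.root i := by
  have hsplit : Finset.univ.filter (fun i => F.sgn i = 1) =
      Finset.univ.filter (fun i => G.sgn i = 1) ∪
        Finset.univ.filter (fun i => F.sgn i = 1 ∧ G.sgn i = 0) := by
    ext i
    have := (Facet.le_def F G).1 h i
    simp only [Finset.mem_union, Finset.mem_filter, Finset.mem_univ, true_and]
    revert this
    generalize F.sgn i = s
    generalize G.sgn i = t
    revert s t
    decide
  rw [sig, sig, hsplit, Finset.sum_union, add_sub_cancel_left]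
  rw [Finset.disjoint_filter]
  rintro i _ h1 ⟨-, h2⟩
  rw [h1] at h2
  exact absurd h2 (by decide)

theorem special_of_maximal (hd : IsCCS d) {F : Facet P} {b : P.Base} (hb : b ∈ F.cham)
    (hmax : ∀ (G : Facet P) (c : P.Base), c ∈ G.cham → G.deg d c ≤ F.deg d b)
    (hmaxl : ∀ (G : Facet P) (c : P.Base), c ∈ G.cham → G.deg d c = F.deg d b → F ≤ G → G = F) :
    IsSpecial d F := by
  obtain ⟨y₀, hy₀⟩ := exists_yLocus hd F
  obtain ⟨z, rfl⟩ := pol_surjective (P := P) y₀
  have hz : P.Polarization z ∈ yLocus d F := hy₀ ▸ rfl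
  obtain ⟨hzW, hzb⟩ := (mem_yLocus_iff hd hb z).1 hz
  refine ⟨P.Polarization z, ?_, ?_⟩
  · rw [pol_mem_dualCarrier_iff, mem_carrier_iff hb]
    refine fun j => ⟨fun hj => ?_, (mem_span_corners_iff hb).1 hzW j⟩
    obtain ⟨G, hG, hsgn⟩ := exists_facet b ({l : b.support | F.sgn l = 1} \ {j})
    have hGF : ∀ l : b.support, G.sgn l = 1 ↔ F.sgn l = 1 ∧ l ≠ j := fun l => hsgn l
    have hle : F ≤ G := le_of_sgn hb hG fun l hl => (sgn_simple hG l).resolve_right fun h => by
      rw [((hGF l).1 h).1] at hl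
      exact absurd hl (by decide)
    have hlt : G.deg d b < F.deg d b := lt_of_le_of_ne (hmax G b hG) fun he => by
      have := (hGF j).1 (by rw [hmaxl G b hG he hle]; exact hj)
      exact this.2 rfl
    have hGW : sig G ∈ Submodule.span R F.corners := by
      rw [mem_span_corners_iff hb]
      intro l hl
      exact coroot'_sig_zero G ((sgn_simple hG l).resolve_right fun h => by
        rw [((hGF l).1 h).1] at hl
        exact absurd hl (by decide))
    have hD : 0 < P.toLinearMap (sig F - sig G) (P.Polarization z) := by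
      rw [map_sub, LinearMap.sub_apply, hzb _ (carrier_subset_span_corners F (sig_mem_carrier F)),
        hzb _ hGW, ← deg_eq, ← deg_eq]
      linarith
    rw [apply_pol, rootForm_comm, sig_sub hle, map_sum, LinearMap.coe_sum, Finset.sum_apply] at hD
    rw [coroot'_pos_iff]
    by_contra hneg
    refine absurd hD (not_lt.2 (Finset.sum_nonpos fun i hi => ?_))
    simp only [Finset.mem_filter, Finset.mem_univ, true_and] at hi
    have hipos : b.IsPos i := by
      by_contra h
      exact ((sgn_eq_one_iff F i).1 hi.1).2 (mem_parab_of_isPos hb ((isPos_negI_iff b i).2 h))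
    rw [rootForm_eq_single hb hzW (j := j) fun l hl hlj =>
      cf_zero_of_sgn_zero hG hi.2 ((hGF l).2 ⟨hl, hlj⟩)]
    exact mul_nonpos_of_nonneg_of_nonpos (cf_nonneg hipos j) (not_lt.1 hneg)
  · rw [mem_dualSolid_iff hd]
    refine ⟨hz.1, ?_⟩
    simp only [Set.mem_iInter, halfClosed, Set.mem_ofPred_eq]
    intro m hm e hem
    obtain ⟨c, hc, hmc⟩ := Set.mem_iUnion₂.1 hm
    rw [hd.corner_eq e c m hem hmc]
    obtain ⟨hzW', hzc⟩ := (mem_yLocus_iff hd hc z).1 hz
    rw [baseCorners_eq] at hmc
    obtain ⟨k, rfl⟩ := hmc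
    rcases sgn_simple hc k with hk | hk
    swap
    · exact (hzc _ (Submodule.subset_span (by rw [corners_eq hc]; exact ⟨k, hk, rfl⟩))).ge
    obtain ⟨G, hG, hsgn⟩ := exists_facet c (insert k {l : c.support | F.sgn l = 1})
    have hGF : ∀ l : c.support, G.sgn l = 1 ↔ l = k ∨ F.sgn l = 1 := fun l => hsgn l
    have hle : G ≤ F := le_of_sgn hG hc fun l hl => (sgn_simple hc l).resolve_right fun h => by
      rw [(hGF l).2 (Or.inr h)] at hl
      exact absurd hl (by decide)
    set D := sig G - sig F with hD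
    have hDsum := sig_sub hle
    have hmemD : ∀ i, i ∈ Finset.univ.filter (fun i => G.sgn i = 1 ∧ F.sgn i = 0) → c.IsPos i ∧ F.sgn i = 0 := by
      intro i hi
      simp only [Finset.mem_filter, Finset.mem_univ, true_and] at hi
      refine ⟨?_, hi.2⟩
      by_contra h
      exact ((sgn_eq_one_iff G i).1 hi.1).2 (mem_parab_of_isPos hG ((isPos_negI_iff c i).2 h))
    have hDB : ∀ l : c.support, P.RootForm (fundWeight c l) D =
        ∑ i ∈ Finset.univ.filter (fun i => G.sgn i = 1 ∧ F.sgn i = 0), cf c i l * hl P l := by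
      intro l
      rw [rootForm_comm, hD, hDsum, map_sum, LinearMap.coe_sum, Finset.sum_apply]
      exact Finset.sum_congr rfl fun i _ => rootForm_fund c i l
    have hDJ : ∀ l : c.support, F.sgn l = 1 → P.RootForm (fundWeight c l) D = 0 := fun l hl' => by
      rw [hDB]
      exact Finset.sum_eq_zero fun i hi => by
        rw [cf_zero_of_sgn_zero hc (hmemD i hi).2 hl', zero_mul]
    have hDK : ∀ l : c.support, F.sgn l = 0 → l ≠ k → P.coroot' l D = 0 := fun l hl' hlk => by
      rw [hD, map_sub, coroot'_sig_zero F hl', coroot'_sig_zero G, sub_zero]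
      refine (sgn_simple hG l).resolve_right fun h => ?_
      rcases (hGF l).1 h with h' | h'
      · exact hlk h'
      · rw [hl'] at h'; exact absurd h' (by decide)
    have hDk : 0 < P.RootForm (fundWeight c k) D := by
      rw [hDB]
      refine Finset.sum_pos' (fun i hi => mul_nonneg (cf_nonneg (hmemD i hi).1 k) (hl_pos _).le)
        ⟨k, ?_, ?_⟩
      · simp only [Finset.mem_filter, Finset.mem_univ, true_and]
        exact ⟨(hGF k).2 (Or.inl rfl), hk⟩
      · rw [cf_self, one_mul]
        exact hl_pos _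
    have ht : 0 < P.coroot' k D := by
      have hDD : P.RootForm D D = P.coroot' k D * P.RootForm (fundWeight c k) D := by
        conv_lhs => arg 1; arg 2; rw [eq_sum_fundWeight c D]
        rw [map_sum, LinearMap.coe_sum, Finset.sum_apply, Finset.sum_eq_single k]
        · simp
        · intro l _ hlk
          rcases sgn_simple hc l with h0 | h1
          · rw [hDK l h0 hlk, zero_smul, map_zero]; rfl
          · rw [map_smul, LinearMap.smul_apply, hDJ l h1, smul_zero]
        · simp
      have hne : D ≠ 0 := fun h => by simp [h] at hDk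
      have := rootForm_pos (P := P) hne
      rw [hDD] at this
      exact pos_of_mul_pos_left this hDk.le
    have hlin : P.toLinearMap D (P.Polarization z - d c) =
        P.coroot' k D * P.toLinearMap (fundWeight c k) (P.Polarization z - d c) := by
      conv_lhs => rw [eq_sum_fundWeight c D]
      simp only [map_sum, map_smul, LinearMap.coe_sum, Finset.sum_apply, LinearMap.smul_apply,
        smul_eq_mul]
      refine Finset.sum_eq_single k (fun l _ hlk => ?_) (by simp)
      rcases sgn_simple hc l with h0 | h1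
      · rw [hDK l h0 hlk, zero_mul]
      · rw [(P.toLinearMap (fundWeight c l)).map_sub,
          hzc _ (Submodule.subset_span (by rw [corners_eq hc]; exact ⟨l, h1, rfl⟩)),
          sub_self, mul_zero]
    have hDz : P.toLinearMap D (P.Polarization z) = 0 := by
      rw [apply_pol, rootForm_comm, hD, hDsum, map_sum, LinearMap.coe_sum, Finset.sum_apply]
      refine Finset.sum_eq_zero fun i hi => ?_
      rw [rootForm_root_sum c i]
      refine Finset.sum_eq_zero fun l _ => ?_
      rcases sgn_simple hc l with h0 | h1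
      · rw [(coroot'_eq_zero_iff (P := P) z l).1 ((mem_span_corners_iff hc).1 hzW' l h0), mul_zero]
      · rw [cf_zero_of_sgn_zero hc (hmemD i hi).2 h1, zero_mul]
    have hDd : P.toLinearMap D (d c) ≤ 0 := by
      rw [hD, map_sub, LinearMap.sub_apply, ← deg_eq, ← deg_eq, deg_eq_deg hd hc hb]
      linarith [hmax G c hG]
    rw [map_sub, hDz] at hlin
    have := nonneg_of_mul_nonneg_right (show (0 : R) ≤ _ by rw [← hlin]; linarith) ht
    rw [map_sub] at this
    linarith

theorem facet_finite (P : RootPairing ι R M N) : Finite (Facet P) :=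
  Finite.of_injective Facet.sgn fun _ _ h => Facet.ext h

theorem existsUnique_special (hd : IsCCS d) : ∃! F : Facet P, IsSpecial d F := by
  have := facet_finite P
  choose ch hch using fun F : Facet P => cham_nonempty F
  have : Nonempty (Facet P) := ⟨Facet.origin P⟩
  obtain ⟨F₀, hF₀⟩ := Finite.exists_max fun F : Facet P => F.deg d (ch F)
  obtain ⟨F, -, hmem, hmaximal⟩ := Set.Finite.exists_le_maximal
    (Set.toFinite {F : Facet P | F.deg d (ch F) = F₀.deg d (ch F₀)}) (a := F₀) rfl
  have hF : IsSpecial d F := by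
    refine special_of_maximal hd (hch F) (fun G c hc => ?_) fun G c hc he hle => ?_
    · rw [deg_eq_deg hd hc (hch G), hmem]
      exact hF₀ G
    · refine le_antisymm (hmaximal ?_ hle) hle
      show G.deg d (ch G) = _
      rw [deg_eq_deg hd (hch G) hc, he, hmem]
  refine ⟨F, hF, fun G hG => ?_⟩
  obtain ⟨hF1, hF2⟩ := special_greatest hd (hch F) hF
  obtain ⟨hG1, hG2⟩ := special_greatest hd (hch G) hG
  exact le_antisymm (hF2 G _ (hch G) (le_antisymm (hF1 G _ (hch G)) (hG1 F _ (hch F))))
    (hG2 F _ (hch F) (le_antisymm (hG1 F _ (hch F)) (hF1 G _ (hch G))))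

/-! ### The closest point to the origin -/

section Form

variable (B : LinearMap.BilinForm R N)
  (hBi : ∀ (i : ι) (y z : N), B (P.coreflection i y) (P.coreflection i z) = B y z)

include hBi

theorem form_coroot (y : N) (i : ι) :
    2 * B y (P.coroot i) = P.root' i y * B (P.coroot i) (P.coroot i) := by
  have h := hBi i y (P.coroot i)
  rw [RootPairing.coreflection_apply_self, RootPairing.coreflection_apply] at h
  simp only [map_sub, map_neg, map_smul, LinearMap.sub_apply, LinearMap.smul_apply, smul_eq_mul] at h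
  linear_combination -h

theorem exists_dual_vector (hBp : ∀ y : N, y ≠ 0 → 0 < B y y) (F : Facet P) {y₀ : N}
    (hy₀ : y₀ ∈ F.dualCarrier) :
    ∃ x ∈ F.carrier, ∀ y : N, P.toLinearMap x y = B y₀ y := by
  have hx : ∀ y, P.toLinearMap (P.toPerfPair.symm (B y₀)) y = B y₀ y := fun y => by
    rw [P.toLinearMap.apply_symm_toPerfPair_self]
  refine ⟨P.toPerfPair.symm (B y₀), ?_, hx⟩
  show sgnVec P _ = F.sgn
  funext i
  have h1 : P.coroot' i (P.toPerfPair.symm (B y₀)) = B y₀ (P.coroot i) := hx _
  have h2 : SignType.sign (P.root' i y₀) = F.sgn i := congr_fun hy₀ i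
  have h3 : SignType.sign (2 * B y₀ (P.coroot i)) =
      SignType.sign (P.root' i y₀ * B (P.coroot i) (P.coroot i)) := by rw [form_coroot B hBi]
  rw [sign_mul, sign_mul, sign_pos (hBp _ (P.ne_zero' i)), sign_pos (two_pos : (0 : R) < 2), one_mul,
    mul_one] at h3
  rw [sgnVec, h1, h3, h2]

theorem special_closest (hd : IsCCS d) (hBs : ∀ y z : N, B y z = B z y)
    (hBp : ∀ y : N, y ≠ 0 → 0 < B y y) {F : Facet P} (hF : IsSpecial d F) :
    ∃ y₀ : N, yLocus d F = {y₀} ∧ y₀ ∈ solid d ∧ ∀ y ∈ solid d, y ≠ y₀ → B y₀ y₀ < B y y := by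
  obtain ⟨y₀, hy₀, hy₀'⟩ := special_point hd hF
  have hmem : y₀ ∈ F.dualCarrier ∩ dualSolid d F := hy₀' ▸ rfl
  refine ⟨y₀, hy₀, dualSolid_subset_solid F hmem.2, fun y hy hne => ?_⟩
  obtain ⟨x, hx, hxB⟩ := exists_dual_vector B hBi hBp F hmem.1
  obtain ⟨b, hb⟩ := cham_nonempty F
  have h1 : B y₀ y₀ ≤ B y₀ y := by
    rw [← hxB, ← hxB, (mem_hyper_iff hd hb y₀).1 ((mem_dualSolid_iff hd F y₀).1 hmem.2).1 x
      (carrier_subset_span_corners F hx)]
    exact apply_le_of_mem_solid hd (hb hx) hy
  have h2 := hBp (y - y₀) (sub_ne_zero.2 hne)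
  simp only [map_sub, LinearMap.sub_apply, hBs y y₀] at h2
  linarith

theorem special_of_closest (hd : IsCCS d) (hBs : ∀ y z : N, B y z = B z y)
    (hBp : ∀ y : N, y ≠ 0 → 0 < B y y) {y₀ : N} (hy₀ : y₀ ∈ solid d)
    (hmin : ∀ y ∈ solid d, B y₀ y₀ ≤ B y y) {F : Facet P} (hF : y₀ ∈ F.dualCarrier) :
    IsSpecial d F ∧ yLocus d F = {y₀} := by
  obtain ⟨x, hx, hxB⟩ := exists_dual_vector B hBi hBp F hF
  obtain ⟨b, hb⟩ := cham_nonempty F
  have hvar : ∀ y ∈ solid d, B y₀ y₀ ≤ B y₀ y := by
    intro y hy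
    by_contra hA
    have hne : y - y₀ ≠ 0 := fun h => hA (by rw [sub_eq_zero.1 h])
    have hC := hBp _ hne
    set A := B y₀ (y - y₀) with hAdef
    set C := B (y - y₀) (y - y₀)
    have hA0 : A < 0 := by
      rw [hAdef, map_sub]
      linarith [not_le.1 hA]
    set s := min 1 (-A / C) with hs
    have hs0 : 0 < s := lt_min one_pos (div_pos (neg_pos.2 hA0) hC)
    have hsC : s * C ≤ -A := by
      calc s * C ≤ -A / C * C := mul_le_mul_of_nonneg_right (min_le_right _ _) hC.le
        _ = -A := div_mul_cancel₀ _ hC.ne'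
    have h := hmin (y₀ + s • (y - y₀))
      ((convex_convexHull R _).add_smul_sub_mem hy₀ hy ⟨hs0.le, min_le_left _ _⟩)
    have hexp : B (y₀ + s • (y - y₀)) (y₀ + s • (y - y₀)) =
        B y₀ y₀ + s * (2 * A + s * C) := by
      simp only [map_add, map_smul, LinearMap.add_apply, LinearMap.smul_apply, smul_eq_mul,
        hBs (y - y₀) y₀, A, C]
      ring
    rw [hexp] at h
    have : s * (2 * A + s * C) < 0 := mul_neg_of_pos_of_neg hs0 (by linarith)
    linarith
  have hxeq : P.toLinearMap x y₀ = P.toLinearMap x (d b) := by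
    refine le_antisymm ?_ (apply_le_of_mem_solid hd (hb hx) hy₀)
    rw [hxB, hxB]
    exact hvar _ (subset_convexHull R _ ⟨b, rfl⟩)
  have hcorner : ∀ j : b.support, F.sgn j = 1 →
      P.toLinearMap (fundWeight b j) y₀ = P.toLinearMap (fundWeight b j) (d b) := by
    have hnn : ∀ j : b.support, 0 ≤
        P.coroot' j x * (P.toLinearMap (fundWeight b j) y₀ - P.toLinearMap (fundWeight b j) (d b)) :=
      fun j => mul_nonneg (hb hx j j.2)
        (sub_nonneg.2 (apply_le_of_mem_solid hd (fundWeight_mem_closedChamber b j) hy₀))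
    have hsum : ∑ j : b.support,
        P.coroot' j x * (P.toLinearMap (fundWeight b j) y₀ - P.toLinearMap (fundWeight b j) (d b)) = 0 := by
      have h := sub_eq_zero.2 hxeq
      rw [eq_sum_fundWeight b x] at h
      simpa only [map_sum, map_smul, LinearMap.coe_sum, Finset.sum_apply, LinearMap.smul_apply,
        smul_eq_mul, ← Finset.sum_sub_distrib, ← mul_sub] using h
    intro j hj
    have h := (Finset.sum_eq_zero_iff_of_nonneg fun j _ => hnn j).1 hsum j (Finset.mem_univ j)
    exact sub_eq_zero.1 ((mul_eq_zero.1 h).resolve_left (((mem_carrier_iff hb).1 hx j).1 hj).ne')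
  have hdual : y₀ ∈ dualSolid d F := by
    rw [mem_dualSolid_iff hd]
    simp only [Set.mem_inter_iff, Set.mem_iInter, hyper, halfClosed, Set.mem_ofPred_eq]
    refine ⟨fun m hm c hc => ?_, fun m _ c hc => apply_le_of_mem_solid hd hc.2 hy₀⟩
    rw [← hd.corner_eq b c m (corners_subset_baseCorners hb hm) hc]
    rw [corners_eq hb] at hm
    obtain ⟨j, hj, rfl⟩ := hm
    exact hcorner j hj
  have hsp : IsSpecial d F := ⟨y₀, hF, hdual⟩
  obtain ⟨y₁, hy₁, hy₁'⟩ := special_point hd hsp
  have : y₀ ∈ F.dualCarrier ∩ dualSolid d F := ⟨hF, hdual⟩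
  rw [hy₁', Set.mem_singleton_iff] at this
  exact ⟨hsp, this ▸ hy₁⟩

end Form

end Groth.L24.RootCh
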